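import Cfsg.Agent.KFacts.He.Basic

/-!
# `|Out(He)| ≤ 2` (helper579)

* `index_le_two` : `Inn(He)` has index 1 or 2 in `Aut(He)`, for any group isomorphic to `Spor.He`;
* `inner_of_odd` : an automorphism with an inner odd power is inner (`inner_of_three` : the cube).
-/

set_option autoImplicit false

namespace Cfsg.Agent.KFacts.He.Outer

/-- **`|Out(He)| ≤ 2`** -/
theorem index_le_two {K : Type*} [Group K] (h : Cfsg.Spor.IsoHe K) :
    (MulAut.conj : K →* MulAut K).range.index = 1 ∨ (MulAut.conj : K →* MulAut K).range.index = 2 := by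
  obtain ⟨z, ι, hh⟩ := Basic.hyp_of_iso h
  obtain ⟨e⟩ := h
  have : Finite K := Finite.of_equiv _ e.symm.toEquiv
  have : Nontrivial K := e.toEquiv.nontrivial
  have : IsSimpleGroup K := IsSimpleGroup.isSimpleGroup_of_surjective e.symm.toMonoidHom e.symm.surjective
  exact OddHalf.UT5.KBasic.index_le_two hh

/-- the square of every automorphism is inner -/
theorem sq_inner {K : Type*} [Group K] (h : Cfsg.Spor.IsoHe K) (a : MulAut K) :
    a * a ∈ (MulAut.conj : K →* MulAut K).range := by
  rcases index_le_two h with e | e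
  · rw [Subgroup.index_eq_one.1 e]; trivial
  · exact Subgroup.mul_self_mem_of_index_two e a

theorem inner_of_odd {K : Type*} [Group K] (h : Cfsg.Spor.IsoHe K) (a : MulAut K) {n : ℕ} (hn : Odd n)
    (ha : a ^ n ∈ (MulAut.conj : K →* MulAut K).range) : a ∈ (MulAut.conj : K →* MulAut K).range := by
  obtain ⟨m, rfl⟩ := hn
  rw [pow_succ, pow_mul, pow_two] at ha
  exact (Subgroup.mul_mem_cancel_left _ (pow_mem (sq_inner h a) m)).1 ha

theorem inner_of_three {K : Type*} [Group K] (h : Cfsg.Spor.IsoHe K) (a : MulAut K)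
    (ha : a ^ 3 ∈ (MulAut.conj : K →* MulAut K).range) : a ∈ (MulAut.conj : K →* MulAut K).range :=
  inner_of_odd h a (by decide) ha

theorem isoHe_refl : Cfsg.Spor.IsoHe Cfsg.Spor.He := ⟨MulEquiv.refl _⟩

/-- on `Spor.He` itself -/
theorem he_inner_of_three (a : MulAut Cfsg.Spor.He)
    (ha : a ^ 3 ∈ (MulAut.conj : Cfsg.Spor.He →* MulAut Cfsg.Spor.He).range) :
    a ∈ (MulAut.conj : Cfsg.Spor.He →* MulAut Cfsg.Spor.He).range :=
  inner_of_three isoHe_refl a ha

end Cfsg.Agent.KFacts.He.Outer
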