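import Cfsg.Agent.Held.GenC
import Cfsg.Agent.Held.EmbSt

/-!
# Automorphisms trivial on the centraliser of `z` (helper579)

`G` any group with an embedding `Emb z ph` of the centraliser of a transvection of `L5(2)` as the centraliser of `z`,
and elements `y1`, `y2` with the relations of a configuration, generating `G` together with `C(z)`. Then an
automorphism of `G` trivial on `C(z)` is `1` or conjugation by `z`.
-/

set_option autoImplicit false

namespace Cfsg.Agent.KFacts.He.AutP

open Cfsg.Agent.Held.Config Cfsg.Agent.Held.Code Cfsg.Agent.Held.EmbSt Cfsg.Agent.Held.GenC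
  Cfsg.Agent.Held.Letters

/-! ### Centralisers, by codes -/

/-- commutation of codes -/
noncomputable def cm (a b : ℕ) : Bool := Nat.beq (mu a b) (mu b a)

/-- commutation with all the codes of a list (short-circuit) -/
noncomputable def cmAll (a : ℕ) (l : List ℕ) : Bool :=
  List.rec (motive := fun _ => Bool) true (fun b _ ih => Bool.rec false ih (cm a b)) l

theorem cmAll_iff {a : ℕ} {l : List ℕ} : cmAll a l = true ↔ ∀ b ∈ l, mu a b = mu b a := by
  induction l with
  | nil => simp [cmAll]
  | cons b l ih =>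
    show (Bool.rec false (cmAll a l) (cm a b) : Bool) = true ↔ _
    rcases h : cm a b with _ | _
    · constructor
      · intro h1; exact absurd (show false = true from h1) (by simp)
      · intro h1
        have h2 := h1 b (by simp)
        unfold cm at h
        rw [h2, Nat.beq_refl] at h
        exact absurd h (by simp)
    · have h2 : mu a b = mu b a := Nat.eq_of_beq_eq_true h
      constructor
      · intro h1 c hc
        rcases List.mem_cons.mp hc with rfl | hc
        · exact h2
        · exact (ih.mp h1) c hc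
      · intro h1
        exact ih.mpr fun c hc => h1 c (by simp [hc])

/-- membership in a list of codes -/
noncomputable def memL (a : ℕ) (l : List ℕ) : Bool :=
  List.rec (motive := fun _ => Bool) false (fun b _ ih => Bool.rec ih true (Nat.beq a b)) l

theorem memL_iff {a : ℕ} {l : List ℕ} : memL a l = true → a ∈ l := by
  induction l with
  | nil => intro h; exact absurd (show false = true from h) (by simp)
  | cons b l ih =>
    intro h
    have h' : (Bool.rec (memL a l) true (Nat.beq a b) : Bool) = true := h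
    rcases hb : Nat.beq a b with _ | _
    · rw [hb] at h'
      exact List.mem_cons_of_mem _ (ih h')
    · rw [Nat.eq_of_beq_eq_true hb]; simp

/-- the check: the codes commuting with the list `l` are in the list `r` -/
noncomputable def chk (l r : List ℕ) (a : ℕ) : Bool := Bool.rec true (memL a r) (cmAll a l)

theorem of_chk {l r : List ℕ} (h : HeldType.Code.allC (chk l r) = true) {a : ℕ} (ha : C a)
    (hl : ∀ b ∈ l, mu a b = mu b a) : a ∈ r := by
  have h1 := HeldType.Code.of_allC h (good_of_C ha)
  unfold chk at h1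
  rw [cmAll_iff.mpr hl] at h1
  exact memL_iff h1

theorem chk_T : HeldType.Code.allC (chk [X 0 1, X 1 2, X 2 3, X 3 4] [e1, zc]) = true := by
  decide +kernel

theorem chk_Q : HeldType.Code.allC (chk [X 0 1, X 0 2, X 0 3, X 1 4, X 2 4, X 3 4] [e1, zc]) = true := by
  decide +kernel

theorem chk_1 : HeldType.Code.allC
    (chk [X 0 1, X 0 2, X 1 3, X 1 4, X 2 3, X 2 4] [e1, X 0 3, zc, mu (X 0 3) zc]) = true := by
  decide +kernel

theorem chk_2 : HeldType.Code.allC
    (chk [X 3 4, X 2 4, X 1 3, X 0 3, X 1 2, X 0 2] [e1, X 1 4, zc, mu (X 1 4) zc]) = true := by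
  decide +kernel

section
variable {G : Type*} [Group G]

/-- The main computation: the possible images of `y`. -/
theorem side_cases {x : ℕ → ℕ → G} {t : ℕ} {y : G} (s : Side x t y) (α : MulAut G)
    (h01 : α (x 0 1) = x 0 1) (h02 : α (x 0 2) = x 0 2) (h3 : ∀ i < 3, α (x i 3) = x i 3)
    (h4 : ∀ i < 3, α (x i 4) = x i 4) (h34 : α (x 3 4) = x 3 4)
    (q3 : x 0 3 * x 0 3 = 1) (q4 : x 0 4 * x 0 4 = 1) (c34 : x 0 3 * x 0 4 = x 0 4 * x 0 3)
    (r3 : x 3 4 * x 0 3 * x 3 4 = x 0 3 * x 0 4) (r4 : x 3 4 * x 0 4 * x 3 4 = x 0 4)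
    (q34 : x 3 4 * x 3 4 = 1) (n3 : x 0 3 ≠ 1)
    (hc : ∀ c : G, (∀ i < 3, x i 3 * c = c * x i 3) → (∀ i < 3, x i 4 * c = c * x i 4) →
      x 0 1 * c = c * x 0 1 → x 0 2 * c = c * x 0 2 →
      c = 1 ∨ c = x 0 3 ∨ c = x 0 4 ∨ c = x 0 3 * x 0 4) :
    α y = y ∨ (α y = x 0 3 * x 0 4 * y ∧ α y = x 0 4 * y * x 0 4) := by
  obtain ⟨c, hcy⟩ : ∃ c, α y = c * y := ⟨α y * y⁻¹, by group⟩
  have hcom : ∀ a b : G, α a = a → α b = b → a * y = y * b → a * c = c * a := by
    intro a b ha hb hab
    have h1 := congrArg α hab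
    rw [map_mul, map_mul, ha, hb, hcy] at h1
    have h2 : a * c * y = c * a * y := by
      rw [mul_assoc, h1, mul_assoc, ← hab, mul_assoc]
    exact mul_right_cancel h2
  have hi3 : ∀ i < 3, x i 3 * c = c * x i 3 := fun i hi =>
    hcom _ _ (h3 i hi) (h4 i hi) (s.act3 i hi)
  have hi4 : ∀ i < 3, x i 4 * c = c * x i 4 := fun i hi =>
    hcom _ _ (h4 i hi) (by rw [map_mul, h3 i hi, h4 i hi]) (s.act4 i hi)
  have hc01 : x 0 1 * c = c * x 0 1 := by
    refine hcom _ _ h01 ?_ s.x01
    rw [map_mul, map_pow, map_mul, h01, h3 0 (by norm_num), h3 2 (by norm_num)]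
  have hc02 : x 0 2 * c = c * x 0 2 := by
    refine hcom _ _ h02 ?_ s.x02
    rw [map_mul, map_pow, map_mul, h02, h3 0 (by norm_num), h3 1 (by norm_num)]
  have hinv := s.inv
  have hinv' := congrArg α hinv
  rw [map_mul, map_mul, map_inv, h34, hcy] at hinv'
  have a3 := s.act3 0 (by norm_num)
  have a4 := s.act4 0 (by norm_num)
  -- `x34 c x34 y⁻¹ = y⁻¹ c⁻¹`
  have h5 : x 3 4 * c * x 3 4 * y⁻¹ = y⁻¹ * c⁻¹ := by
    rw [← hinv]
    have : x 3 4 * c * x 3 4 * (x 3 4 * y * x 3 4) = x 3 4 * (c * y) * x 3 4 := by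
      calc x 3 4 * c * x 3 4 * (x 3 4 * y * x 3 4) = x 3 4 * c * (x 3 4 * x 3 4) * y * x 3 4 := by
            simp only [mul_assoc]
        _ = x 3 4 * (c * y) * x 3 4 := by rw [q34]; simp only [mul_assoc, mul_one]
    rw [this, hinv', mul_inv_rev, hinv]
  have h6 : y * (x 3 4 * c * x 3 4) = c⁻¹ * y := by
    calc y * (x 3 4 * c * x 3 4) = y * (x 3 4 * c * x 3 4 * y⁻¹) * y := by group
      _ = y * (y⁻¹ * c⁻¹) * y := by rw [h5]
      _ = c⁻¹ * y := by group
  rcases hc c hi3 hi4 hc01 hc02 with h | h | h | h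
  · left; rw [hcy, h, one_mul]
  · exfalso
    rw [h, r3, inv_eq_of_mul_eq_one_right q3, a3] at h6
    exact n3 (mul_eq_right.mp (mul_left_cancel h6))
  · exfalso
    rw [h, r4, inv_eq_of_mul_eq_one_right q4, a4] at h6
    exact n3 (mul_eq_right.mp (mul_left_cancel h6).symm)
  · right
    refine ⟨by rw [hcy, h], ?_⟩
    rw [hcy, h]
    calc x 0 3 * x 0 4 * y = x 0 3 * (x 0 4 * y) := by rw [mul_assoc]
      _ = x 0 3 * y * x 0 3 * x 0 4 := by rw [a4]; simp only [mul_assoc]
      _ = y * (x 0 4 * x 0 3) * x 0 4 := by rw [a3]; simp only [mul_assoc]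
      _ = y * (x 0 3 * x 0 4) * x 0 4 := by rw [c34]
      _ = x 0 4 * y * x 0 4 := by rw [a4]

end

section
variable {G : Type*} [Group G] {z : G} {ph : ℕ → G} {y1 y2 f : G} {t1 t2 : ℕ}

theorem cX {i j : ℕ} (h : isC (X i j) (X i j) = true) : C (X i j) := C_of_isC h

theorem c01 : C (X 0 1) := cX (by decide +kernel)
theorem c02 : C (X 0 2) := cX (by decide +kernel)
theorem c03 : C (X 0 3) := cX (by decide +kernel)
theorem c04 : C (X 0 4) := cX (by decide +kernel)
theorem c12 : C (X 1 2) := cX (by decide +kernel)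
theorem c13 : C (X 1 3) := cX (by decide +kernel)
theorem c14 : C (X 1 4) := cX (by decide +kernel)
theorem c23 : C (X 2 3) := cX (by decide +kernel)
theorem c24 : C (X 2 4) := cX (by decide +kernel)
theorem c34 : C (X 3 4) := cX (by decide +kernel)

/-- equality of two products of coded elements -/
theorem mm (h : Emb z ph) {a b c d : ℕ} (ha : C a) (hb : C b) (hc : C c) (hd : C d)
    (e : mu a b = mu c d) : ph a * ph b = ph c * ph d := by
  rw [← h.mul ha hb, ← h.mul hc hd, e]

theorem sqp (h : Emb z ph) {a : ℕ} (ha : C a) (e : mu a a = Held.Code.e1) : ph a * ph a = 1 := by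
  rw [← h.mul ha ha, e, ph_e1 h]

theorem code_comm (h : Emb z ph) {a b : ℕ} (ha : C a) (hb : C b) (e : ph b * ph a = ph a * ph b) :
    mu a b = mu b a := by
  rw [← h.mul hb ha, ← h.mul ha hb] at e
  exact (h.inj (hb.mul ha) (ha.mul hb) e).symm

theorem zx (h : Emb z ph) : ph (X 0 4) = z := by rw [zc_eq]; exact h.z_eq

theorem ne_one (h : Emb z ph) {a : ℕ} (ha : C a) (hn : a ≠ Held.Code.e1) : ph a ≠ 1 := by
  intro e
  rw [← ph_e1 h] at e
  exact hn (h.inj ha C_e1 e)

/-- **Side 1**: the image of `y1`. -/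
theorem y1_cases (h : Emb z ph) (s : Side (fun i j => ph (X i j)) t1 y1) (α : MulAut G)
    (hα : ∀ a, C a → α (ph a) = ph a) :
    α y1 = y1 ∨ (α y1 = ph (X 0 3) * ph (X 0 4) * y1 ∧ α y1 = z * y1 * z) := by
  have key := side_cases s α (hα _ c01) (hα _ c02)
    (by intro i hi; interval_cases i <;> exact hα _ (by first | exact c03 | exact c13 | exact c23))
    (by intro i hi; interval_cases i <;> exact hα _ (by first | exact c04 | exact c14 | exact c24))
    (hα _ c34) (sqp h c03 (by decide +kernel)) (sqp h c04 (by decide +kernel))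
    (mm h c03 c04 c04 c03 (by decide +kernel))
    (by
      show ph (X 3 4) * ph (X 0 3) * ph (X 3 4) = ph (X 0 3) * ph (X 0 4)
      rw [← h.mul c34 c03]
      exact mm h (c34.mul c03) c34 c03 c04 (by decide +kernel))
    (by
      show ph (X 3 4) * ph (X 0 4) * ph (X 3 4) = ph (X 0 4)
      rw [← h.mul c34 c04, ← h.mul (c34.mul c04) c34]
      exact congrArg ph (by decide +kernel))
    (sqp h c34 (by decide +kernel)) (ne_one h c03 (by decide +kernel))
    (by
      intro c hi3 hi4 h01 h02
      have hz : c * z = z * c := by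
        rw [← zx h]; exact (hi4 0 (by norm_num)).symm
      obtain ⟨a, ha, rfl⟩ := h.surj c hz
      have h1 := of_chk chk_1 ha (by
        intro b hb
        simp only [List.mem_cons, List.not_mem_nil, or_false] at hb
        rcases hb with rfl | rfl | rfl | rfl | rfl | rfl
        · exact code_comm h ha c01 h01
        · exact code_comm h ha c02 h02
        · exact code_comm h ha c13 (hi3 1 (by norm_num))
        · exact code_comm h ha c14 (hi4 1 (by norm_num))
        · exact code_comm h ha c23 (hi3 2 (by norm_num))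
        · exact code_comm h ha c24 (hi4 2 (by norm_num)))
      simp only [List.mem_cons, List.not_mem_nil, or_false] at h1
      rcases h1 with rfl | rfl | rfl | rfl
      · left; exact ph_e1 h
      · right; left; rfl
      · right; right; left; rw [← zc_eq]
      · right; right; right
        rw [← zc_eq]; exact h.mul c03 c04)
  rcases key with k | ⟨k1, k2⟩
  · exact Or.inl k
  · refine Or.inr ⟨k1, ?_⟩
    rw [← zx h]
    exact k2

/-- **Side 2**: the image of `y2`. -/
theorem y2_cases (h : Emb z ph) (s : Side (mir fun i j => ph (X i j)) t2 y2) (α : MulAut G)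
    (hα : ∀ a, C a → α (ph a) = ph a) :
    α y2 = y2 ∨ (α y2 = ph (X 1 4) * ph (X 0 4) * y2 ∧ α y2 = z * y2 * z) := by
  have key := side_cases s α (hα _ c34) (hα _ c24)
    (by intro i hi; interval_cases i <;> exact hα _ (by first | exact c14 | exact c13 | exact c12))
    (by intro i hi; interval_cases i <;> exact hα _ (by first | exact c04 | exact c03 | exact c02))
    (hα _ c01) (sqp h c14 (by decide +kernel)) (sqp h c04 (by decide +kernel))
    (mm h c14 c04 c04 c14 (by decide +kernel))
    (by
      show ph (X 0 1) * ph (X 1 4) * ph (X 0 1) = ph (X 1 4) * ph (X 0 4)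
      rw [← h.mul c01 c14]
      exact mm h (c01.mul c14) c01 c14 c04 (by decide +kernel))
    (by
      show ph (X 0 1) * ph (X 0 4) * ph (X 0 1) = ph (X 0 4)
      rw [← h.mul c01 c04, ← h.mul (c01.mul c04) c01]
      exact congrArg ph (by decide +kernel))
    (sqp h c01 (by decide +kernel)) (ne_one h c14 (by decide +kernel))
    (by
      intro c hi3 hi4 h01 h02
      have hz : c * z = z * c := by
        rw [← zx h]; exact (hi4 0 (by norm_num)).symm
      obtain ⟨a, ha, rfl⟩ := h.surj c hz
      have h1 := of_chk chk_2 ha (by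
        intro b hb
        simp only [List.mem_cons, List.not_mem_nil, or_false] at hb
        rcases hb with rfl | rfl | rfl | rfl | rfl | rfl
        · exact code_comm h ha c34 h01
        · exact code_comm h ha c24 h02
        · exact code_comm h ha c13 (hi3 1 (by norm_num))
        · exact code_comm h ha c03 (hi4 1 (by norm_num))
        · exact code_comm h ha c12 (hi3 2 (by norm_num))
        · exact code_comm h ha c02 (hi4 2 (by norm_num)))
      simp only [List.mem_cons, List.not_mem_nil, or_false] at h1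
      rcases h1 with rfl | rfl | rfl | rfl
      · left; exact ph_e1 h
      · right; left; rfl
      · right; right; left; rw [← zc_eq]; rfl
      · right; right; right
        rw [← zc_eq]; exact h.mul c14 c04)
  rcases key with k | ⟨k1, k2⟩
  · exact Or.inl k
  · refine Or.inr ⟨k1, ?_⟩
    rw [← zx h]
    exact k2

/-- **Mixed case**: impossible. -/
theorem mixed (h : Emb z ph) (c : Config (fun i j => ph (X i j)) t1 t2 f y1 y2) (α : MulAut G)
    (hf : α f = f) (hf2 : f * f = 1)
    (hfc : f * (ph (X 1 4) * ph (X 0 4)) = ph (X 1 4) * ph (X 0 4) * f) (k1 : α y1 = y1)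
    (k2 : α y2 = ph (X 1 4) * ph (X 0 4) * y2) : False := by
  have hcm := c.comm
  have hcm' := congrArg α hcm
  simp only [map_mul, hf, k1, k2] at hcm'
  set d := ph (X 1 4) * ph (X 0 4) with hd
  -- `d y2 w = w d y2 `
  have e1 : d * (f * y1 * f) = f * y1 * f * d := by
    have e2 : d * (f * y1 * f) * y2 = f * y1 * f * d * y2 := by
      calc d * (f * y1 * f) * y2 = d * (f * y1 * f * y2) := by simp only [mul_assoc]
        _ = d * (y2 * (f * y1 * f)) := by rw [hcm]
        _ = d * y2 * (f * y1 * f) := by simp only [mul_assoc]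
        _ = f * y1 * f * (d * y2) := hcm'
        _ = f * y1 * f * d * y2 := by simp only [mul_assoc]
    exact mul_right_cancel e2
  have e3 : d * y1 = y1 * d := by
    calc d * y1 = (f * f) * d * y1 * (f * f) := by rw [hf2]; simp
      _ = f * (f * d) * y1 * f * f := by simp only [mul_assoc]
      _ = f * (d * f) * y1 * f * f := by rw [hfc]
      _ = f * (d * (f * y1 * f)) * f := by simp only [mul_assoc]
      _ = f * (f * y1 * f * d) * f := by rw [e1]
      _ = (f * f) * y1 * (f * d) * f := by simp only [mul_assoc]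
      _ = (f * f) * y1 * (d * f) * f := by rw [hfc]
      _ = (f * f) * y1 * d * (f * f) := by simp only [mul_assoc]
      _ = y1 * d := by rw [hf2]; simp
  have a4 : ∀ i < 3, ph (X i 4) * y1 = y1 * (ph (X i 3) * ph (X i 4)) := c.side1.act4
  have e4 : d * y1 = y1 * ((ph (X 1 3) * ph (X 1 4)) * (ph (X 0 3) * ph (X 0 4))) := by
    rw [hd, mul_assoc, a4 0 (by norm_num), ← mul_assoc, a4 1 (by norm_num)]
    simp only [mul_assoc]
  rw [e4] at e3
  have e5 := mul_left_cancel e3
  rw [hd, ← h.mul c13 c14, ← h.mul c03 c04, ← h.mul c14 c04,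
    ← h.mul (c13.mul c14) (c03.mul c04)] at e5
  have e6 := h.inj ((c13.mul c14).mul (c03.mul c04)) (c14.mul c04) e5
  revert e6
  decide +kernel

/-- **An automorphism trivial on `C(z)` is `1` or conjugation by `z`.** -/
theorem aut_cases (h : Emb z ph) (c : Config (fun i j => ph (X i j)) t1 t2 f y1 y2)
    (hf : ∃ a, C a ∧ ph a = f) (hf2 : f * f = 1)
    (hfc : f * (ph (X 1 4) * ph (X 0 4)) = ph (X 1 4) * ph (X 0 4) * f)
    (hgen : Subgroup.centralizer ({z} : Set G) ⊔ Subgroup.closure {y1, y2} = ⊤) (α : MulAut G)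
    (hα : ∀ g : G, g * z = z * g → α g = g) : α = 1 ∨ α = MulAut.conj z := by
  have zz : z * z = 1 := by
    rw [← zx h]; exact sqp h c04 (by decide +kernel)
  have zi : z⁻¹ = z := inv_eq_of_mul_eq_one_right zz
  have hα' : ∀ a, C a → α (ph a) = ph a := fun a ha => hα _ (h.comm ha)
  have hcz : ∀ g : G, MulAut.conj z g = z * g * z := by
    intro g; rw [MulAut.conj_apply, zi]
  have fz : f * z = z * f := by
    obtain ⟨a, ha, rfl⟩ := hf
    exact h.comm ha
  have ext : ∀ β : MulAut G, (∀ g : G, g * z = z * g → α g = β g) → α y1 = β y1 → α y2 = β y2 →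
      α = β := by
    intro β h1 h2 h3
    have h4 : (⊤ : Subgroup G) ≤ α.toMonoidHom.eqLocus β.toMonoidHom := by
      rw [← hgen]
      refine sup_le ?_ ?_
      · intro g hg
        rw [Subgroup.mem_centralizer_singleton_iff] at hg
        exact h1 g hg
      · rw [Subgroup.closure_le]
        rintro g (rfl | rfl)
        · exact h2
        · exact h3
    apply MulEquiv.ext
    intro g
    exact h4 (Subgroup.mem_top g)
  have hcomm : ∀ g : G, g * z = z * g → α g = MulAut.conj z g := by
    intro g hg
    rw [hα g hg, hcz, ← hg, mul_assoc, zz, mul_one]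
  rcases y1_cases h c.side1 α hα' with k1 | ⟨k1, k1'⟩
  · rcases y2_cases h c.side2 α hα' with k2 | ⟨k2, k2'⟩
    · left
      exact ext 1 (fun g hg => hα g hg) k1 k2
    · exact (mixed h c α (hα f fz) hf2 hfc k1 k2).elim
  · rcases y2_cases h c.side2 α hα' with k2 | ⟨k2, k2'⟩
    · exfalso
      -- multiply with conjugation by `z`
      have hb : ∀ g : G, (MulAut.conj z * α) g = z * α g * z := by
        intro g; rw [MulAut.mul_apply, hcz]
      have hβ : ∀ g : G, g * z = z * g → (MulAut.conj z * α) g = g := by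
        intro g hg
        rw [hb, hα g hg, ← hg, mul_assoc, zz, mul_one]
      have m1 : (MulAut.conj z * α) y1 = y1 := by
        rw [hb, k1']
        calc z * (z * y1 * z) * z = (z * z) * y1 * (z * z) := by simp only [mul_assoc]
          _ = y1 := by rw [zz]; simp
      have m2 : (MulAut.conj z * α) y2 = z * y2 * z := by rw [hb, k2]
      rcases y2_cases h c.side2 (MulAut.conj z * α) (fun a ha => hβ _ (h.comm ha)) with m | ⟨m, -⟩
      · -- `z y2 z = y2`: then `x14` is fixed by `y2`
        rw [m2] at m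
        have e1 : z * y2 = y2 * z := by
          calc z * y2 = z * y2 * (z * z) := by rw [zz, mul_one]
            _ = z * y2 * z * z := by simp only [mul_assoc]
            _ = y2 * z := by rw [m]
        have e2 : ph (X 0 4) * y2 = y2 * (ph (X 1 4) * ph (X 0 4)) := c.side2.act4 0 (by norm_num)
        rw [zx h, e1] at e2
        have e3 := mul_left_cancel e2
        exact ne_one h c14 (by decide +kernel) (mul_eq_right.mp e3.symm)
      · exact mixed h c (MulAut.conj z * α) (hβ f fz) hf2 hfc m1 m
    · right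
      refine ext _ hcomm ?_ ?_
      · rw [k1', hcz]
      · rw [k2', hcz]

end

end Cfsg.Agent.KFacts.He.AutP
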