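import Cfsg.Agent.KFacts.He.Hyp
import Cfsg.Agent.KFacts.He.AutP
import Cfsg.Agent.HeldHe.Ident

/-!
# Facts about the presented Held group: the centraliser of `z` (helper579)

* `card_cent`, `perfect`, `ph`, `emb : Emb z ph`, `link : ph (cd u) = iota u`, `ph_cx`;
* `config : Config ... y1 y2`, `gen`: `C(z)`, `y1`, `y2` generate;
* `aut_cases`: an automorphism trivial on `C(z)` is `1` or conjugation by `z`.
-/

set_option autoImplicit false

namespace Cfsg.Agent.KFacts.He.Cent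

open Cfsg.Spor Cfsg.Spor.He Cfsg.Agent.KFacts.He.Words Cfsg.Agent.KFacts.He.Bound
  Cfsg.Agent.SporadicRecognition.CosetCert Cfsg.Agent.Held.Letters Cfsg.Agent.Held.Code
  Cfsg.Agent.Held.EmbSt Cfsg.Agent.Lib.F2Mat Cfsg.Agent.KFacts.He.Hyp
  Cfsg.Agent.Held.Config Cfsg.Agent.HeldHe.Model
open Cfsg.Agent.SporadicRecognition.HeldModel (CC L5 cd toMat_cd card_CC)

theorem isHe : Cfsg.IsHe Cfsg.Spor.He := Cfsg.Agent.HeldHe.Ident.isHe

theorem card_He : Nat.card Cfsg.Spor.He = 4030387200 := isHe.2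

instance simpleHe : IsSimpleGroup Cfsg.Spor.He := isHe.1

theorem card_cent : Nat.card (Subgroup.centralizer ({z} : Set Cfsg.Spor.He)) = 21504 := by
  rw [← hyp.range, ← card_CC, Nat.card_congr (MonoidHom.ofInjective hyp.inj).toEquiv]

/-- the isomorphism of the model onto the centraliser of `z` -/
noncomputable def iso : CC ≃* Subgroup.centralizer ({z} : Set Cfsg.Spor.He) :=
  (MonoidHom.ofInjective hyp.inj).trans (MulEquiv.subgroupCongr hyp.range)

theorem iso_apply (u : CC) : (iso u : Cfsg.Spor.He) = iota u := rfl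

theorem exists_ph : ∃ ph : ℕ → Cfsg.Spor.He, Emb z ph ∧ ∀ u : CC, ∀ a, C a → toMat 5 a = (u : L5).1 →
    ph a = iota u := by
  obtain ⟨ph, E, hl⟩ := exists_emb z iota hyp.inj hyp.range (fun _ => hyp.map_zz)
  exact ⟨ph, E, fun u a ha e => hl u.1 u.2 a ha e⟩

/-- the codes of the centraliser -/
noncomputable def ph : ℕ → Cfsg.Spor.He := Classical.choose exists_ph

theorem emb : Emb z ph := (Classical.choose_spec exists_ph).1

theorem ph_eq (u : CC) {a : ℕ} (ha : C a) (e : toMat 5 a = (u : L5).1) : ph a = iota u :=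
  (Classical.choose_spec exists_ph).2 u a ha e

theorem ph_cx (n : ℕ) (hn : n < 12) : ph (cx n) = gx xr n := by
  rw [ph_eq _ (C_cx n) (TwoSix.OfSt.toMat_cx n), iota_xC n hn]

theorem gx_mem {n : ℕ} (hn : n < 12) : gx xr n ∈ Subgroup.centralizer ({z} : Set Cfsg.Spor.He) := by
  rw [← hyp.range, ← iota_xC n hn]; exact ⟨_, rfl⟩

/-! ### The configuration -/

/-- the pairs occurring in the relations -/
theorem ph_X (i j : ℕ) (h : (i, j) ∈ [(0,1),(0,2),(0,3),(0,4),(1,2),(1,3),(1,4),(2,3),(2,4),(3,4),(2,1),(3,2)]) :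
    ph (X i j) = xr i j := by
  simp only [List.mem_cons, Prod.mk.injEq, List.not_mem_nil, or_false] at h
  rcases h with ⟨rfl, rfl⟩ | ⟨rfl, rfl⟩ | ⟨rfl, rfl⟩ | ⟨rfl, rfl⟩ | ⟨rfl, rfl⟩ | ⟨rfl, rfl⟩ | ⟨rfl, rfl⟩ |
    ⟨rfl, rfl⟩ | ⟨rfl, rfl⟩ | ⟨rfl, rfl⟩ | ⟨rfl, rfl⟩ | ⟨rfl, rfl⟩
  · exact ph_cx 0 (by norm_num)
  · exact ph_cx 1 (by norm_num)
  · exact ph_cx 2 (by norm_num)
  · exact ph_cx 3 (by norm_num)
  · exact ph_cx 4 (by norm_num)
  · exact ph_cx 5 (by norm_num)
  · exact ph_cx 6 (by norm_num)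
  · exact ph_cx 7 (by norm_num)
  · exact ph_cx 8 (by norm_num)
  · exact ph_cx 9 (by norm_num)
  · exact ph_cx 10 (by norm_num)
  · exact ph_cx 11 (by norm_num)

theorem side_congr {G : Type*} [Group G] {x x' : ℕ → ℕ → G} {t : ℕ} {y : G}
    (h01 : x' 0 1 = x 0 1) (h02 : x' 0 2 = x 0 2) (h12 : x' 1 2 = x 1 2) (h21 : x' 2 1 = x 2 1)
    (h3 : ∀ i < 3, x' i 3 = x i 3) (h4 : ∀ i < 3, x' i 4 = x i 4) (h34 : x' 3 4 = x 3 4)
    (s : Side x t y) : Side x' t y where
  cube := s.cube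
  inv := by rw [h34]; exact s.inv
  act3 := fun i hi => by rw [h3 i hi, h4 i hi]; exact s.act3 i hi
  act4 := fun i hi => by rw [h3 i hi, h4 i hi]; exact s.act4 i hi
  x01 := by rw [h01, h3 0 (by norm_num), h3 2 (by norm_num)]; exact s.x01
  x02 := by rw [h02, h3 0 (by norm_num), h3 1 (by norm_num)]; exact s.x02
  x12 := by rw [h12, h4 0 (by norm_num)]; exact s.x12
  x21 := by rw [h21, h4 0 (by norm_num)]; exact s.x21

theorem config : Config (fun i j => ph (X i j)) 1 1 (ph (X 1 3)) y1 y2 where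
  side1 := by
    refine side_congr ?_ ?_ ?_ ?_ ?_ ?_ ?_ cfg.side1
    · exact ph_X 0 1 (by decide)
    · exact ph_X 0 2 (by decide)
    · exact ph_X 1 2 (by decide)
    · exact ph_X 2 1 (by decide)
    · intro i hi; exact ph_X i 3 (by interval_cases i <;> decide)
    · intro i hi; exact ph_X i 4 (by interval_cases i <;> decide)
    · exact ph_X 3 4 (by decide)
  side2 := by
    refine side_congr ?_ ?_ ?_ ?_ ?_ ?_ ?_ cfg.side2
    · exact ph_X 3 4 (by decide)
    · exact ph_X 2 4 (by decide)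
    · exact ph_X 2 3 (by decide)
    · exact ph_X 3 2 (by decide)
    · intro i hi; exact ph_X 1 (4 - i) (by interval_cases i <;> decide)
    · intro i hi; exact ph_X 0 (4 - i) (by interval_cases i <;> decide)
    · exact ph_X 0 1 (by decide)
  comm := by
    rw [ph_X 1 3 (by decide)]
    exact cfg.comm

/-- words in the sixteen letters for the ten letters (their inverses) -/
def v10 (n : ℕ) : List ℕ :=
  [[0,8,3],[9,1,3],[0],[4,3],[7,3],[9],[11,3],[14,0],[10,3],[12,9]].getD n []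

theorem chkL : ∀ n < 10, okBase (walk (ex (v10 n) ++ [n]).reverse) = true := by decide +kernel

theorem L0_eq {n : ℕ} (hn : n < 10) : L0 n = (ev (gy xr y1 y2) (v10 n))⁻¹ := by
  have h1 := eq_one_of_base (walk_apply (ex (v10 n) ++ [n]).reverse) (chkL n hn)
  rw [List.reverse_reverse, ev_append, ev_cons, ev_nil, mul_one, ← ev_ex] at h1
  exact (inv_eq_of_mul_eq_one_right h1).symm

/-- **Generation** -/
theorem gen : Subgroup.centralizer ({z} : Set Cfsg.Spor.He) ⊔ Subgroup.closure {y1, y2} = ⊤ := by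
  rw [eq_top_iff, ← closure_L0, Subgroup.closure_le]
  rintro _ ⟨n, hn, rfl⟩
  have hn' : n < 10 := hn
  rw [L0_eq hn']
  refine inv_mem (ev_mem _ _ _ ?_)
  intro l _
  have m1 : y1 ∈ Subgroup.closure ({y1, y2} : Set Cfsg.Spor.He) := Subgroup.subset_closure (by simp)
  have m2 : y2 ∈ Subgroup.closure ({y1, y2} : Set Cfsg.Spor.He) := Subgroup.subset_closure (by simp)
  rcases Nat.lt_or_ge l 12 with h | h
  · rw [gy_of_lt _ _ _ h]
    exact Subgroup.mem_sup_left (gx_mem h)
  · rcases Nat.lt_or_ge l 16 with h1 | h1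
    · refine Subgroup.mem_sup_right ?_
      interval_cases l
      · exact m1
      · exact inv_mem m1
      · exact m2
      · exact inv_mem m2
    · rw [gy_of_ge _ _ _ h1]; exact one_mem _

/-- **An automorphism trivial on `C(z)` is `1` or conjugation by `z`.** -/
theorem aut_cases (α : MulAut Cfsg.Spor.He) (hα : ∀ g : Cfsg.Spor.He, g * z = z * g → α g = g) :
    α = 1 ∨ α = MulAut.conj z := by
  refine AutP.aut_cases emb config ⟨X 1 3, AutP.c13, rfl⟩ (AutP.sqp emb AutP.c13 (by decide +kernel)) ?_ gen α hα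
  rw [← emb.mul AutP.c14 AutP.c04]
  exact AutP.mm emb AutP.c13 (AutP.c14.mul AutP.c04) (AutP.c14.mul AutP.c04) AutP.c13 (by decide +kernel)

/-- **`C(z)` is perfect.** -/
theorem perfect : ⁅Subgroup.centralizer ({z} : Set Cfsg.Spor.He), Subgroup.centralizer ({z} : Set Cfsg.Spor.He)⁆ =
    Subgroup.centralizer ({z} : Set Cfsg.Spor.He) := by
  have h1 : ⁅(⊤ : Subgroup CC), (⊤ : Subgroup CC)⁆ = ⊤ := by
    apply Subgroup.map_injective CC.subtype_injective
    rw [Subgroup.map_commutator, ← MonoidHom.range_eq_map, Subgroup.range_subtype]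
    exact TwoSix.Aut.perf
  rw [← hyp.range, MonoidHom.range_eq_map, ← Subgroup.map_commutator, h1]

end Cfsg.Agent.KFacts.He.Cent
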