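import Cfsg.Agent.KFacts.He.Hyp
import Cfsg.Agent.KFacts.He.AutP

/-!
# The two classes of involutions of the presented Held group (helper40)

`exists_min` : every involution of the centralizer `CC` of a transvection of `L5(2)` is conjugate in `CC` to one of
29 explicit ones (descent on the codes).
`two_classes` : every involution of `Spor.He` is conjugate to `z` or to `v = x01 x24`; `v` is conjugate to the
generator `a`.
-/

set_option autoImplicit false
set_option Elab.async false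

namespace Cfsg.Agent.KFacts.He.Classes

open Cfsg.Spor Cfsg.Spor.He Cfsg.Agent.SporadicB.HePerm Cfsg.Agent.KFacts.He.Words
  Cfsg.Agent.KFacts.He.Hyp Cfsg.Agent.KFacts.He.AutP Cfsg.Agent.Held.Letters Cfsg.Agent.Held.GenC
  Cfsg.Agent.KFacts.He.Bound Cfsg.Agent.Held.LetterVals
  Cfsg.Agent.SporadicRecognition.CosetCert Cfsg.Agent.SporadicRecognition.HeldModel
open Cfsg.Agent.Held.Code (Emb C X mu mu_assoc mu_e1 mu_lt exists_emb)
open Cfsg.Agent.Held.EmbSt (cx C_cx cx_sq evC C_evC ev_ph ph_e1)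

/-- the words of the minimal codes of involutions -/
def mins : List (List ℕ) := [[0], [1], [2], [3], [5], [6], [8], [9], [0,8], [0,9], [1,5], [1,6], [1,9], [2,6], [2,8],
  [3,5], [5,8], [4,10,4], [7,11,7], [0,7,11,7], [2,4,10,4], [3,4,10,4], [3,7,11,7], [4,9,10,4], [6,7,11,7],
  [5,10,11,10,11,5], [1,5,10,11,10,11,5], [3,5,10,11,10,11,5], [5,8,10,11,10,11,5]]

/-- their codes -/
def mcs : List ℕ := [17043523, 17043525, 17043529, 17043537, 17043777, 17044033, 17059905, 17567809, 17059907,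
  17567811, 17043781, 17044037, 17567813, 17044041, 17059913, 17043793, 17060161, 17041537, 16916545, 16916547,
  17041545, 17041553, 16916561, 17565825, 16917057, 16847105, 16847109, 16847121, 16863489]

theorem mcs_eq : mins.map evC = mcs := by decide +kernel

/-- the conjugate by a letter -/
noncomputable def cjc (s c : ℕ) : ℕ := mu (mu (cx s) c) (cx s)

/-- some conjugate by a letter `< n` has a smaller code -/
noncomputable def desc (c n : ℕ) : Bool :=
  Nat.rec (motive := fun _ => Bool) false (fun s ih => Bool.rec ih true (Nat.ble (Nat.succ (cjc s c)) c)) n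

theorem of_desc {c n : ℕ} (h : desc c n = true) : ∃ s, cjc s c < c := by
  induction n with
  | zero => exact absurd (show false = true from h) (by simp)
  | succ n ih =>
    have h' : (Bool.rec (desc c n) true (Nat.ble (Nat.succ (cjc n c)) c) : Bool) = true := h
    rcases hb : Nat.ble (Nat.succ (cjc n c)) c with _ | _
    · rw [hb] at h'
      exact ih h'
    · exact ⟨n, Nat.le_of_ble_eq_true hb⟩

/-- an involution is on the list or not minimal -/
noncomputable def P (c : ℕ) : Bool :=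
  Bool.rec true (Bool.rec (Bool.rec (desc c 12) true (memL c mcs)) true (Nat.beq c Held.Code.e1))
    (Nat.beq (mu c c) Held.Code.e1)

theorem chkP : HeldType.Code.allC P = true := by decide +kernel

theorem cases_P {c : ℕ} (hc : C c) (h1 : mu c c = Held.Code.e1) (h2 : c ≠ Held.Code.e1) :
    c ∈ mcs ∨ ∃ s, cjc s c < c := by
  have h := HeldType.Code.of_allC chkP (good_of_C hc)
  unfold P at h
  rw [h1, Nat.beq_refl] at h
  have h3 : Nat.beq c Held.Code.e1 = false := by
    rcases hb : Nat.beq c Held.Code.e1 with _ | _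
    · rfl
    · exact absurd (Nat.eq_of_beq_eq_true hb) h2
  rw [h3] at h
  rcases hm : memL c mcs with _ | _
  · rw [hm] at h
    exact Or.inr (of_desc h)
  · exact Or.inl (memL_iff hm)

/-- **Every involution of the model is conjugate to one of the list.** -/
theorem exists_min {G : Type*} [Group G] {z : G} {ph : ℕ → G} (h : Emb z ph) :
    ∀ n c : ℕ, c ≤ n → C c → mu c c = Held.Code.e1 → c ≠ Held.Code.e1 →
      ∃ w ∈ mins, ∃ g : G, g * z = z * g ∧ g * ph c * g⁻¹ = ph (evC w) := by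
  intro n
  induction n with
  | zero =>
    intro c hc hC _ _
    have : c = 0 := by omega
    subst this
    obtain ⟨_, _, b, _, h4, _⟩ := hC
    exfalso
    have h5 : mu 0 b = 0 := by
      apply Lib.F2Mat.toMat_inj (n := 5) (mu_lt _ _) (by norm_num)
      rw [Lib.F2Mat.toMat_mul]
      have : Lib.F2Mat.toMat 5 0 = 0 := by
        ext i j
        rw [Lib.F2Mat.toMat_apply, Nat.zero_testBit]
        rfl
      rw [this, zero_mul]
    rw [h5] at h4
    exact absurd h4 (by decide)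
  | succ n ih =>
    intro c hc hC h1 h2
    rcases cases_P hC h1 h2 with h3 | ⟨s, hs⟩
    · rw [← mcs_eq, List.mem_map] at h3
      obtain ⟨w, hw, e⟩ := h3
      exact ⟨w, hw, 1, by simp, by rw [e]; simp⟩
    · have hC' : C (cjc s c) := ((C_cx s).mul hC).mul (C_cx s)
      have e1 : mu (cjc s c) (cjc s c) = Held.Code.e1 := by
        unfold cjc
        calc mu (mu (mu (cx s) c) (cx s)) (mu (mu (cx s) c) (cx s))
            = mu (mu (cx s) c) (mu (mu (cx s) (cx s)) (mu c (cx s))) := by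
              simp only [mu_assoc]
          _ = mu (mu (cx s) c) (mu c (cx s)) := by
              rw [cx_sq, Held.Code.e1_mu (mu_lt _ _)]
          _ = mu (cx s) (mu (mu c c) (cx s)) := by simp only [mu_assoc]
          _ = Held.Code.e1 := by
              rw [h1, Held.Code.e1_mu (C_cx s).1, cx_sq]
      have e2 : cjc s c ≠ Held.Code.e1 := by
        intro e
        apply h2
        have h4 : mu (mu (cx s) (cjc s c)) (cx s) = c := by
          unfold cjc
          calc mu (mu (cx s) (mu (mu (cx s) c) (cx s))) (cx s)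
              = mu (mu (cx s) (cx s)) (mu c (mu (cx s) (cx s))) := by simp only [mu_assoc]
            _ = c := by rw [cx_sq, mu_e1 hC.1, Held.Code.e1_mu hC.1]
        rw [← h4, e, mu_e1 (C_cx s).1, cx_sq]
      obtain ⟨w, hw, g, hg, hgw⟩ := ih (cjc s c) (by omega) hC' e1 e2
      have hss : ph (cx s) * ph (cx s) = 1 := by
        rw [← h.mul (C_cx s) (C_cx s), cx_sq, ph_e1 h]
      have hsi : (ph (cx s))⁻¹ = ph (cx s) := inv_eq_of_mul_eq_one_right hss
      have hcj : ph (cjc s c) = ph (cx s) * ph c * ph (cx s) := by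
        unfold cjc
        rw [h.mul ((C_cx s).mul hC) (C_cx s), h.mul (C_cx s) hC]
      refine ⟨w, hw, g * ph (cx s), ?_, ?_⟩
      · rw [mul_assoc, h.comm (C_cx s), ← mul_assoc, hg, mul_assoc]
      · rw [← hgw, hcj, mul_inv_rev, hsi]
        group

/-! ### The Held group -/

/-- the involution `x01 x24` -/
def v : Cfsg.Spor.He := ev (gy xr y1 y2) [0, 8]

/-- conjugating words, to `z` -/
def certB : List (List ℕ × List ℕ) := [([0], [13,11,7,10,4]), ([1], [13,11,7]), ([2], [13]), ([3], []),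
  ([5], [13,15]), ([6], [15]), ([8], [15,10,4]), ([9], [15,10,4,11,7]), ([1,5], [12,11,12]), ([5,8], [14,10,14]),
  ([4,10,4], [13,11,15,10,5]), ([7,11,7], [13,15,10,11,4]), ([0,7,11,7], [12,11,10,4,12,11]),
  ([2,4,10,4], [13,11,7,12,15,10]), ([4,9,10,4], [14,10,11,7,14,10]), ([6,7,11,7], [13,15,10,4,14,11]),
  ([5,10,11,10,11,5], [13,11,15,10,11,7]), ([1,5,10,11,10,11,5], [12,11,10,12,11,10,4]),
  ([5,8,10,11,10,11,5], [13,14,10,11,14,10,4])]

/-- conjugating words, to `v` -/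
def certA : List (List ℕ × List ℕ) := [([0,8], []), ([0,9], [11,7]), ([1,6], [4,10]), ([1,9], [4,11,10,5]),
  ([2,6], [4,5,10,11]), ([2,8], [5,11,10,11]), ([3,5], [4,10,15,13,11]), ([3,4,10,4], [1,4,10,15,10]),
  ([3,7,11,7], [13,11,10,11,13,11]), ([3,5,10,11,10,11,5], [4,10,13,15,10,11,7])]

theorem chkB : allW (certB.map fun p => (p.2 ++ p.1, [3] ++ p.2)) = true := by decide +kernel

theorem chkA : allW (certA.map fun p => (p.2 ++ p.1, [0, 8] ++ p.2)) = true := by decide +kernel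

theorem mins_cases : ∀ w ∈ mins, w ∈ certB.map Prod.fst ∨ w ∈ certA.map Prod.fst := by decide

theorem of_certB {w : List ℕ} (h : w ∈ certB.map Prod.fst) :
    ∃ g : Cfsg.Spor.He, g * ev (gy xr y1 y2) w * g⁻¹ = z := by
  obtain ⟨p, hp, rfl⟩ := List.mem_map.mp h
  have h1 := allW_sound chkB _ (List.mem_map.mpr ⟨p, hp, rfl⟩)
  rw [ev_append, ev_append, ev_one] at h1
  refine ⟨ev (gy xr y1 y2) p.2, ?_⟩
  rw [h1, mul_inv_cancel_right]
  rfl

theorem of_certA {w : List ℕ} (h : w ∈ certA.map Prod.fst) :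
    ∃ g : Cfsg.Spor.He, g * ev (gy xr y1 y2) w * g⁻¹ = v := by
  obtain ⟨p, hp, rfl⟩ := List.mem_map.mp h
  have h1 := allW_sound chkA _ (List.mem_map.mpr ⟨p, hp, rfl⟩)
  rw [ev_append, ev_append] at h1
  refine ⟨ev (gy xr y1 y2) p.2, ?_⟩
  rw [h1, mul_inv_cancel_right]
  rfl

theorem exists_ph : ∃ ph : ℕ → Cfsg.Spor.He, Emb z ph ∧ ∀ n < 12, ph (cx n) = gx xr n := by
  obtain ⟨ph, E, hl⟩ := exists_emb z iota hyp.inj hyp.range (fun _ => hyp.map_zz)
  refine ⟨ph, E, fun n hn => ?_⟩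
  rw [← iota_xC n hn]
  exact hl (gx TwoSix.OfSt.xC n : CC).1 (gx TwoSix.OfSt.xC n : CC).2 (cx n) (C_cx n) (TwoSix.OfSt.toMat_cx n)

theorem card_he : Nat.card Cfsg.Spor.He = 4030387200 := by
  obtain ⟨h1, h2⟩ := Cfsg.Agent.SporadicB.HeUpper.card_he_le
  exact (injective_of_card_le h2).2.1

theorem card_centralizer : Nat.card (Subgroup.centralizer ({z} : Set Cfsg.Spor.He)) = 21504 := by
  rw [← hyp.range, ← Nat.card_congr (MonoidHom.ofInjective hyp.inj).toEquiv, card_CC]

/-- the involutions commuting with `z` -/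
theorem cases_comm {t : Cfsg.Spor.He} (ht : t * t = 1) (h1 : t ≠ 1) (hz : t * z = z * t) :
    (∃ g, g * t * g⁻¹ = z) ∨ ∃ g, g * t * g⁻¹ = v := by
  obtain ⟨ph, E, hph⟩ := exists_ph
  obtain ⟨c, hc, rfl⟩ := E.surj t hz
  have e1 : mu c c = Held.Code.e1 := by
    apply E.inj (hc.mul hc) Held.Code.C_e1
    rw [E.mul hc hc, ht, ph_e1 E]
  have e2 : c ≠ Held.Code.e1 := by
    rintro rfl
    exact h1 (ph_e1 E)
  obtain ⟨w, hw, g, -, hg⟩ := exists_min E c c le_rfl hc e1 e2
  have hlt : ∀ w ∈ mins, ∀ l ∈ w, l < 12 := by decide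
  have e3 : ph (evC w) = ev (gy xr y1 y2) w := by
    rw [← ev_ph E]
    apply ev_congr
    intro l hl
    rw [gy_of_lt xr y1 y2 (hlt w hw l hl), Held.EmbSt.gx_ph E, hph l (hlt w hw l hl)]
  rw [e3] at hg
  rcases mins_cases w hw with h | h
  · left
    obtain ⟨g', hg'⟩ := of_certB h
    refine ⟨g' * g, ?_⟩
    rw [← hg', ← hg]
    group
  · right
    obtain ⟨g', hg'⟩ := of_certA h
    refine ⟨g' * g, ?_⟩
    rw [← hg', ← hg]
    group

/-- every involution has a conjugate commuting with `z` -/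
theorem exists_comm {t : Cfsg.Spor.He} (ht : t * t = 1) : ∃ g : Cfsg.Spor.He, g * t * g⁻¹ * z = z * (g * t * g⁻¹) := by
  have : Fact (Nat.Prime 2) := ⟨Nat.prime_two⟩
  have hp : IsPGroup 2 (Subgroup.zpowers t) := by
    rw [IsPGroup.iff_card]
    have h1 : Nat.card (Subgroup.zpowers t) ∣ 2 ^ 1 := by
      rw [Nat.card_zpowers, pow_one]
      exact orderOf_dvd_of_pow_eq_one (by rw [pow_two, ht])
    obtain ⟨k, -, hk⟩ := (Nat.dvd_prime_pow Nat.prime_two).mp h1
    exact ⟨k, hk⟩
  have hidx : ¬ 2 ∣ Nat.card (Cfsg.Spor.He ⧸ Subgroup.centralizer ({z} : Set Cfsg.Spor.He)) := by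
    have h1 := Subgroup.card_eq_card_quotient_mul_card_subgroup (Subgroup.centralizer ({z} : Set Cfsg.Spor.He))
    rw [card_he, card_centralizer] at h1
    omega
  obtain ⟨q, hq⟩ := hp.nonempty_fixed_point_of_prime_not_dvd_card
    (Cfsg.Spor.He ⧸ Subgroup.centralizer ({z} : Set Cfsg.Spor.He)) hidx
  obtain ⟨g, rfl⟩ := QuotientGroup.mk_surjective q
  have h1 : (⟨t, Subgroup.mem_zpowers t⟩ : Subgroup.zpowers t) •
      (g : Cfsg.Spor.He ⧸ Subgroup.centralizer ({z} : Set Cfsg.Spor.He)) = g := hq _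
  have h2 : ((t * g : Cfsg.Spor.He) : Cfsg.Spor.He ⧸ Subgroup.centralizer ({z} : Set Cfsg.Spor.He)) = g := h1
  rw [eq_comm, QuotientGroup.eq, Subgroup.mem_centralizer_singleton_iff] at h2
  refine ⟨g⁻¹, ?_⟩
  rw [inv_inv, mul_assoc g⁻¹ t g]
  exact h2

/-- **Every involution of the Held group is conjugate to `z` or to `v`.** -/
theorem two_classes {t : Cfsg.Spor.He} (ht : t * t = 1) (h1 : t ≠ 1) :
    (∃ g, g * z * g⁻¹ = t) ∨ ∃ g, g * v * g⁻¹ = t := by
  obtain ⟨g, hg⟩ := exists_comm ht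
  rcases cases_comm (t := g * t * g⁻¹) (by
      calc g * t * g⁻¹ * (g * t * g⁻¹) = g * (t * t) * g⁻¹ := by group
        _ = 1 := by rw [ht]; group) (by
      intro h
      apply h1
      calc t = g⁻¹ * (g * t * g⁻¹) * g := by group
        _ = 1 := by rw [h]; group) hg with ⟨k, hk⟩ | ⟨k, hk⟩
  · left
    refine ⟨(k * g)⁻¹, ?_⟩
    rw [← hk]
    group
  · right
    refine ⟨(k * g)⁻¹, ?_⟩
    rw [← hk]
    group

/-- `v` is conjugate to the generator `a` -/
theorem v_a : xr 1 3 * v * (xr 1 3)⁻¹ = PresentedGroup.of Gen.a := by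
  have hs : xr 1 3 * xr 1 3 = 1 := st.sq 5
  rw [inv_eq_of_mul_eq_one_right hs]
  have e : xr 1 3 * v * xr 1 3 = ev (gy xr y1 y2) [5, 0, 8, 5] := by
    simp only [v, ev_cons, ev_nil, mul_one, g5, mul_assoc]
  rw [e]
  have key : ∀ i : Fin 2058, im [5, 0, 8, 5] i = act [.a] i →
      phi (ev (gy xr y1 y2) [5, 0, 8, 5]) i = phi (PresentedGroup.of Gen.a) i := by
    intro i hi
    apply Fin.ext
    rw [im_spec, hi, ← phi_wd_apply]
    rfl
  refine eq_of_base (key 0 ?_) (key 1 ?_) (key 32 ?_) (key 8 ?_) <;> decide +kernel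

/-- `z` is conjugate to the generator `d` -/
theorem z_d : ∃ g : Cfsg.Spor.He, g * z * g⁻¹ = PresentedGroup.of Gen.d := by
  refine ⟨ev (gy xr y1 y2) [7,1,11,10,15,10,11,12], ?_⟩
  rw [mul_inv_eq_iff_eq_mul]
  have e : ev (gy xr y1 y2) [7,1,11,10,15,10,11,12] * z = ev (gy xr y1 y2) [7,1,11,10,15,10,11,12,3] := by
    rw [show ([7,1,11,10,15,10,11,12,3] : List ℕ) = [7,1,11,10,15,10,11,12] ++ [3] from rfl, ev_append, ev_one]
    rfl
  rw [e]
  have key : ∀ i : Fin 2058, im [7,1,11,10,15,10,11,12,3] i = act [.d] (im [7,1,11,10,15,10,11,12] i) →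
      phi (ev (gy xr y1 y2) [7,1,11,10,15,10,11,12,3]) i =
        phi (PresentedGroup.of Gen.d * ev (gy xr y1 y2) [7,1,11,10,15,10,11,12]) i := by
    intro i hi
    apply Fin.ext
    rw [im_spec, hi, map_mul, Equiv.Perm.mul_apply, phi_of, pm_apply, im_spec]
    rfl
  refine eq_of_base (key 0 ?_) (key 1 ?_) (key 32 ?_) (key 8 ?_) <;> decide +kernel

/-- the same with the generator `a` -/
theorem two_classes_a {t : Cfsg.Spor.He} (ht : t * t = 1) (h1 : t ≠ 1) :
    (∃ g, g * z * g⁻¹ = t) ∨ ∃ g, g * PresentedGroup.of Gen.a * g⁻¹ = t := by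
  rcases two_classes ht h1 with h | ⟨g, hg⟩
  · exact Or.inl h
  · right
    refine ⟨g * (xr 1 3)⁻¹, ?_⟩
    rw [← v_a, ← hg]
    group

/-- the same with the generators `a`, `d` -/
theorem two_classes_ad {t : Cfsg.Spor.He} (ht : t * t = 1) (h1 : t ≠ 1) :
    (∃ g, g * PresentedGroup.of Gen.d * g⁻¹ = t) ∨ ∃ g, g * PresentedGroup.of Gen.a * g⁻¹ = t := by
  rcases two_classes_a ht h1 with ⟨g, hg⟩ | h
  · left
    obtain ⟨k, hk⟩ := z_d
    refine ⟨g * k⁻¹, ?_⟩
    rw [← hk, ← hg]
    group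
  · exact Or.inr h

end Cfsg.Agent.KFacts.He.Classes
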