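import Mathlib
import Cfsg.Agent.FixBN.HeStab

/-!
# Centralizers in the Held group by certificates

An element `c` of the presented Held group commuting with some of the generators and fixing some of the
2058 points is determined level by level: the colours (orbitals) restrict the image of the next point to
the images under explicit words.  `mem_of_chk` : if all checks hold then `c` is the product of one word
from each level.
-/

set_option autoImplicit false

namespace Cfsg.Agent.KFacts.He.Lv

open Cfsg.Spor Cfsg.Spor.He Cfsg.Agent.SporadicB.HePerm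
open Cfsg.Agent.FixBN.HeStab

/-- number of a generator -/
def gc : Gen → ℕ
  | .a => 0
  | .b => 1
  | .c => 2
  | .d => 3
  | .e => 4
  | .f => 5
  | .g => 6

theorem gc_inj {x y : Gen} (h : gc x = gc y) : x = y := by
  cases x <;> cases y <;> first | rfl | exact absurd h (by decide)

/-- the word uses only the letters of `al` -/
def ovr (al w : List Gen) : Bool := w.all fun x => al.any fun y => Nat.beq (gc x) (gc y)

theorem of_ovr {al w : List Gen} (h : ovr al w = true) : ∀ x ∈ w, x ∈ al := by
  intro x hx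
  unfold ovr at h
  rw [List.all_eq_true] at h
  have h1 := h x hx
  rw [List.any_eq_true] at h1
  obtain ⟨y, hy, h2⟩ := h1
  rw [gc_inj (Nat.eq_of_beq_eq_true h2)]
  exact hy

/-- membership in a list of numbers -/
def elemN (a : ℕ) (l : List ℕ) : Bool := l.any fun b => Nat.beq a b

theorem of_elemN {a : ℕ} {l : List ℕ} (h : elemN a l = true) : a ∈ l := by
  unfold elemN at h
  rw [List.any_eq_true] at h
  obtain ⟨y, hy, h2⟩ := h
  rw [Nat.eq_of_beq_eq_true h2]
  exact hy

/-- One level: the next point `p`, tests `colr y (w y) = v`, tests `col (u y) = v` with `u (w f) = 0` for a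
fixed point `f`, the words and the images of `p` under them. -/
structure Lvl where
  p : ℕ
  ts : List (List Gen × ℕ)
  fs : List (ℕ × List Gen × List Gen × ℕ)
  ws : List (List Gen)
  ys : List ℕ

/-- the tests of the first kind -/
def tsOk (y : ℕ) (ts : List (List Gen × ℕ)) : Bool :=
  ts.all fun t => Nat.beq (colr y (act t.1 y)) t.2

/-- the tests of the second kind -/
def fsOk (y : ℕ) (fs : List (ℕ × List Gen × List Gen × ℕ)) : Bool :=
  fs.all fun e => Nat.beq (col (act e.2.2.1 y)) e.2.2.2

/-- the images of the point -/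
def ysOk (p : ℕ) : List (List Gen) → List ℕ → Bool
  | [], [] => true
  | w :: ws, y :: ys => and (Nat.beq (act w p) y) (ysOk p ws ys)
  | _, _ => false

theorem of_ysOk {p : ℕ} : ∀ {ws : List (List Gen)} {ys : List ℕ}, ysOk p ws ys = true →
    ∀ y ∈ ys, ∃ w ∈ ws, act w p = y := by
  intro ws
  induction ws with
  | nil =>
    intro ys h y hy
    cases ys with
    | nil => exact absurd hy List.not_mem_nil
    | cons z zs => exact absurd (show false = true from h) (by decide)
  | cons w ws ih =>
    intro ys h y hy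
    cases ys with
    | nil => exact absurd hy List.not_mem_nil
    | cons z zs =>
      have h' : and (Nat.beq (act w p) z) (ysOk p ws zs) = true := h
      rw [Bool.and_eq_true] at h'
      rcases List.mem_cons.mp hy with h1 | h1
      · exact ⟨w, List.mem_cons_self, by rw [h1]; exact Nat.eq_of_beq_eq_true h'.1⟩
      · obtain ⟨v, hv, hvy⟩ := ih h'.2 y h1
        exact ⟨v, List.mem_cons_of_mem _ hv, hvy⟩

/-- the check of one level, without the loop ovr all points -/
def chk0 (al : List Gen) (F : List ℕ) (l : Lvl) : Bool :=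
  and (Nat.blt l.p 2058) (and
    (l.ts.all fun t => and (ovr al t.1) (Nat.beq (colr l.p (act t.1 l.p)) t.2)) (and
    (l.fs.all fun e => and (elemN e.1 F) (and (ovr al e.2.1)
      (and (Nat.beq (act e.2.2.1 (act e.2.1 e.1)) 0) (Nat.beq (col (act e.2.2.1 l.p)) e.2.2.2)))) (and
    (l.ws.all fun x => and (al.all fun m => chkB (x ++ [m]) (m :: x)) (F.all fun f => Nat.beq (act x f) f))
    (ysOk l.p l.ws l.ys))))

/-- the loop ovr all points -/
def chk1 (l : Lvl) : Bool :=
  allBelow 2058 fun y => bif tsOk y l.ts then (bif fsOk y l.fs then elemN y l.ys else true) else true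

/-- all levels -/
def chkAll (al : List Gen) : List ℕ → List Lvl → Bool
  | F, [] => and (and (elemN 0 F) (elemN 1 F)) (and (elemN 32 F) (elemN 8 F))
  | F, l :: ls => and (chk0 al F l) (and (chk1 l) (chkAll al (l.p :: F) ls))

/-- `c` fixes the point with number `f` -/
def Fx (c : Cfsg.Spor.He) (f : ℕ) : Prop := ∃ h : f < 2058, phi c ⟨f, h⟩ = ⟨f, h⟩

/-- the generator -/
def gn (x : Gen) : Cfsg.Spor.He := PresentedGroup.of x

theorem wd_cons (x : Gen) (w : List Gen) : wd (x :: w) = gn x * wd w := rfl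

theorem wd_nil : wd [] = 1 := rfl

theorem wd_append (v w : List Gen) : wd (v ++ w) = wd v * wd w := by
  unfold wd
  rw [List.map_append, List.prod_append]

theorem wd_one (x : Gen) : wd [x] = gn x := by rw [wd_cons, wd_nil, mul_one]

/-- the action of a word on a point -/
theorem act_eq (w : List Gen) (y : Fin 2058) : act w y = (phi (wd w) y : ℕ) := (phi_wd_apply w y).symm

theorem comm_wd {c : Cfsg.Spor.He} {al w : List Gen} (hc : ∀ m ∈ al, c * gn m = gn m * c)
    (h : ∀ x ∈ w, x ∈ al) : c * wd w = wd w * c := by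
  induction w with
  | nil => rw [wd_nil, mul_one, one_mul]
  | cons x w ih =>
    rw [wd_cons, ← mul_assoc, hc x (h x List.mem_cons_self), mul_assoc,
      ih fun y hy => h y (List.mem_cons_of_mem _ hy), mul_assoc]

theorem phi_mul_apply (x y : Cfsg.Spor.He) (i : Fin 2058) : phi (x * y) i = phi x (phi y i) := by
  rw [map_mul, Equiv.Perm.mul_apply]

theorem phi_inv_apply {x : Cfsg.Spor.He} {i j : Fin 2058} (h : phi x i = j) : phi x⁻¹ j = i := by
  rw [← h, ← phi_mul_apply, inv_mul_cancel, map_one]; rfl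

/-- One level. -/
theorem level {al : List Gen} {F : List ℕ} {l : Lvl} (h0 : chk0 al F l = true) (h1 : chk1 l = true)
    {c : Cfsg.Spor.He} (hc : ∀ m ∈ al, c * gn m = gn m * c) (hF : ∀ f ∈ F, Fx c f) :
    ∃ x ∈ l.ws, (∀ m ∈ al, ((wd x)⁻¹ * c) * gn m = gn m * ((wd x)⁻¹ * c)) ∧
      ∀ f ∈ l.p :: F, Fx ((wd x)⁻¹ * c) f := by
  unfold chk0 at h0
  simp only [Bool.and_eq_true] at h0
  obtain ⟨hp, hts, hfs, hws, hys⟩ := h0
  have hp' : l.p < 2058 := Nat.le_of_ble_eq_true hp
  rw [List.all_eq_true] at hts hfs hws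
  set p : Fin 2058 := ⟨l.p, hp'⟩ with hpdef
  have hpv : (p : ℕ) = l.p := rfl
  have ht : tsOk (phi c p) l.ts = true := by
    unfold tsOk
    rw [List.all_eq_true]
    intro t ht
    have h2 := hts t ht
    rw [Bool.and_eq_true] at h2
    have hcw := comm_wd hc (of_ovr h2.1)
    have e1 : act t.1 (phi c p) = (phi c (phi (wd t.1) p) : ℕ) := by
      rw [act_eq, ← phi_mul_apply, ← hcw, phi_mul_apply]
    rw [e1, colr_inv, ← act_eq, hpv]
    exact h2.2
  have hf : fsOk (phi c p) l.fs = true := by
    unfold fsOk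
    rw [List.all_eq_true]
    intro e he
    have h2 := hfs e he
    simp only [Bool.and_eq_true] at h2
    obtain ⟨g1, g2, g3, g4⟩ := h2
    obtain ⟨hlt, hfx⟩ := hF _ (of_elemN g1)
    have hcw := comm_wd hc (of_ovr g2)
    have hu : phi (wd e.2.2.1 * c) (phi (wd e.2.1) ⟨e.1, hlt⟩) = 0 := by
      rw [phi_mul_apply, ← phi_mul_apply c, hcw, phi_mul_apply, hfx]
      apply Fin.ext
      rw [← act_eq, ← act_eq]
      exact Nat.eq_of_beq_eq_true g3
    have hu0 : phi (wd e.2.2.1) (phi (wd e.2.1) ⟨e.1, hlt⟩) = 0 := by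
      apply Fin.ext
      rw [← act_eq, ← act_eq]
      exact Nat.eq_of_beq_eq_true g3
    have e1 := colr_eq _ hu p
    have e2 := colr_eq _ hu0 p
    rw [phi_mul_apply] at e1
    rw [act_eq, ← e1, e2, ← act_eq, hpv]
    exact g4
  have h3 := of_allBelow h1 (phi c p) (phi c p).2
  rw [ht, hf, cond_true, cond_true] at h3
  obtain ⟨x, hx, hxp⟩ := of_ysOk hys _ (of_elemN h3)
  have hxc : phi (wd x) p = phi c p := by
    apply Fin.ext
    rw [← act_eq]
    exact hxp
  have h4 := hws x hx
  rw [Bool.and_eq_true, List.all_eq_true, List.all_eq_true] at h4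
  refine ⟨x, hx, fun m hm => ?_, fun f hf' => ?_⟩
  · have e1 := eq_of_chkB (h4.1 m hm)
    rw [wd_append, wd_one, wd_cons] at e1
    have e2 : Commute (wd x) (gn m) := e1
    have e3 : Commute c (gn m) := hc m hm
    exact (e2.inv_left.mul_left e3)
  · rcases List.mem_cons.mp hf' with rfl | hf'
    · refine ⟨hp', ?_⟩
      rw [phi_mul_apply]
      exact phi_inv_apply hxc
    · obtain ⟨hlt, hfx⟩ := hF f hf'
      refine ⟨hlt, ?_⟩
      rw [phi_mul_apply, hfx]
      apply phi_inv_apply
      apply Fin.ext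
      rw [← act_eq]
      exact Nat.eq_of_beq_eq_true (h4.2 f hf')

/-- products of one word from each level -/
def Pr : List Lvl → Cfsg.Spor.He → Prop
  | [], c => c = 1
  | l :: ls, c => ∃ x ∈ l.ws, ∃ d, Pr ls d ∧ c = wd x * d

/-- **The centralizer certificate.** -/
theorem mem_of_chk {al : List Gen} : ∀ {ls : List Lvl} {F : List ℕ}, chkAll al F ls = true →
    ∀ {c : Cfsg.Spor.He}, (∀ m ∈ al, c * gn m = gn m * c) → (∀ f ∈ F, Fx c f) → Pr ls c := by
  intro ls
  induction ls with
  | nil =>
    intro F h c hc hF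
    have h' : and (and (elemN 0 F) (elemN 1 F)) (and (elemN 32 F) (elemN 8 F)) = true := h
    simp only [Bool.and_eq_true] at h'
    obtain ⟨⟨h0, h1⟩, h2, h3⟩ := h'
    show c = 1
    have e1 : phi (1 : Cfsg.Spor.He) = 1 := map_one phi
    apply eq_of_base
    · rw [e1]; exact (hF 0 (of_elemN h0)).2
    · rw [e1]; exact (hF 1 (of_elemN h1)).2
    · rw [e1]; exact (hF 32 (of_elemN h2)).2
    · rw [e1]; exact (hF 8 (of_elemN h3)).2
  | cons l ls ih =>
    intro F h c hc hF
    have h' : and (chk0 al F l) (and (chk1 l) (chkAll al (l.p :: F) ls)) = true := h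
    simp only [Bool.and_eq_true] at h'
    obtain ⟨x, hx, hxc, hxF⟩ := level h'.1 h'.2.1 hc hF
    exact ⟨x, hx, _, ih h'.2.2 hxc hxF, by rw [mul_inv_cancel_left]⟩

/-- Products lie in a subgroup containing the words. -/
theorem mem_of_pr {S : Subgroup Cfsg.Spor.He} : ∀ {ls : List Lvl}, (∀ l ∈ ls, ∀ x ∈ l.ws, wd x ∈ S) →
    ∀ {c : Cfsg.Spor.He}, Pr ls c → c ∈ S := by
  intro ls
  induction ls with
  | nil => intro _ c h; rw [show c = 1 from h]; exact S.one_mem
  | cons l ls ih =>
    rintro h c ⟨x, hx, d, hd, rfl⟩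
    exact S.mul_mem (h l List.mem_cons_self x hx) (ih (fun l' hl' => h l' (List.mem_cons_of_mem _ hl')) hd)

end Cfsg.Agent.KFacts.He.Lv
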