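import Mathlib
import Cfsg.Agent.KFacts.He.Lv

/-! Data for the centralizer of the involution `a` of the Held group (generated file). -/

set_option autoImplicit false

namespace Cfsg.Agent.KFacts.He.TwoAData

open Cfsg.Spor.He Cfsg.Agent.KFacts.He.Lv

/-- levels for the centralizer of `a` -/
def lvA : List Lvl := [
  { p := 427,
    ts := [([.a], 1)],
    fs := [],
    ws := [[], [.c], [.e,.c], [.e], [.b,.a,.b,.c], [.b,.a,.b,.e], [.d,.c], [.g,.c], [.b,.a,.b,.e,.c], [.b,.a,.b], [.b,.a,.b,.d,.c], [.b,.a,.b,.d,.e], [.d,.e], [.e,.d,.c], [.f,.d,.c], [.b,.a,.b,.e,.d,.c], [.b,.a,.b,.g,.c], [.c,.b,.a,.b,.d,.c], [.b,.a,.b,.f,.d,.c], [.d,.e,.d], [.g], [.g,.e], [.f,.g], [.b,.a,.b,.g], [.b,.a,.b,.f,.g], [.d,.g], [.b,.a,.b,.g,.e], [.b,.a,.b,.d,.g], [.b,.a,.b,.e,.d,.g],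 [.e,.d,.g], [.c,.d,.g], [.f,.d,.g], [.d,.g,.d], [.b,.a,.b,.e,.c,.d,.g], [.b,.a,.b,.c,.d,.g], [.b,.a,.b,.f,.d,.g], [.b,.a,.b,.f,.e,.d,.g], [.f,.e,.d,.g], [.f,.c,.d,.g], [.g,.f,.d,.g], [.b,.a,.b,.f,.e,.c,.d,.g], [.b,.a,.b,.f,.c,.d,.g], [.b,.a,.b,.g,.f,.d,.g], [.b,.a,.b,.f,.d,.g,.d], [.f,.d,.g,.d], [.g,.f,.c,.d,.g], [.d,.g,.f,.d,.g], [.d,.e,.c,.d], [.b,.a,.b,.f,.c,.d,.g,.d], [.b,.a,.b,.g,.f,.c,.d,.g], [.f,.c,.d,.g,.d], [.d], [.b,.a,.b,.d], [.b,.a,.b,.d,.e,.c], [.d,.e,.c], [.c,.d], [.e,.d], [.f,.d], [.g,.d], [.b,.a,.b,.e,.d], [.b,.a,.b,.d,.c,.d], [.b,.a,.b,.c,.d], [.d,.c,.d], [.b,.a,.b,.g,.d], [.b,.a,.b,.f,.d], [.e,.c,.d], [.b,.a,.b,.e,.c,.d], [.c,.b,.a,.b,.d,.g,.f,.d,.g], [.b,.a,.b,.d,.g,.f,.d,.g], [.d,.c,.b,.a,.b,.d,.f,.e,.d], [.f,.d,.c,.b,.a,.b,.f,.d], [.d,.f,.d,.g,.d],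 [.f,.g,.d,.c,.b,.a,.b,.f,.d], [.b,.a,.b,.d,.f,.e,.c,.d], [.f,.g,.d,.f,.g,.d], [.d,.c,.d,.g,.f,.d,.c], [.d,.c,.d,.f,.e,.d,.c], [.b,.a,.b,.d,.e,.c,.d], [.c,.d,.g,.f,.d,.g], [.c,.d,.f,.d,.g,.d], [.d,.f,.e,.c,.d], [.b,.a,.b,.c,.d,.f,.d,.g,.d], [.b,.a,.b,.c,.d,.g,.f,.d,.g], [.c,.d,.e,.c,.d], [.c,.d,.g,.d], [.e,.c,.d,.g], [.b,.a,.b,.c,.d,.e,.c,.d], [.b,.a,.b,.c,.d,.g,.d], [.b,.a,.b,.d,.g,.d], [.g,.f,.d,.c], [.d,.g,.f,.d,.c], [.d,.f,.e,.d], [.e,.d,.f,.c,.d], [.e,.c,.d,.f,.c,.d], [.g,.c,.d], [.g,.f,.d], [.f,.d,.e,.c], [.f,.d,.e], [.f,.e,.d,.c], [.d,.f,.e,.d,.c], [.d,.f,.g,.c,.d], [.e,.d,.g,.f,.d], [.e,.c,.d,.g,.f,.d], [.f,.c,.d], [.b,.a,.b,.f,.d,.e], [.b,.a,.b,.f,.e,.d,.c], [.b,.a,.b,.g,.f,.d,.c], [.b,.a,.b,.d,.g,.f,.d,.c], [.b,.a,.b,.f,.d,.e,.c], [.f,.e,.d], [.b,.a,.b,.f,.e,.d],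 [.b,.a,.b,.g,.f,.d], [.b,.a,.b,.f,.c,.d], [.d,.g,.f,.d], [.f,.g,.d], [.c,.b,.a,.b,.f,.d], [.c,.b,.a,.b,.f,.c,.d], [.b,.a,.b,.g,.c,.d], [.c,.b,.a,.b,.d,.f,.e,.c,.d], [.c,.d,.c,.b,.a,.b,.f,.d], [.d,.c,.b,.a,.b,.f,.d], [.b,.a,.b,.c,.d,.f,.e,.c,.d], [.e,.d,.c,.b,.a,.b,.f,.d], [.b,.a,.b,.c,.d,.f,.g,.d], [.g,.d,.c,.b,.a,.b,.f,.d], [.e,.d,.f,.g,.d], [.g,.d,.f,.g,.d], [.b,.a,.b,.e,.d,.g,.f,.d], [.f,.e,.d,.c,.b,.a,.b,.f,.d], [.d,.f,.g,.d], [.c,.d,.f,.g,.d], [.c,.d,.f,.e,.c,.d], [.b,.a,.b,.e,.d,.f,.c,.d], [.b,.a,.b,.c,.d,.f,.c,.d], [.b,.a,.b,.d,.g,.f,.d], [.d,.c,.b,.a,.b,.f,.c,.d], [.c,.d,.g,.f,.d], [.c,.d,.f,.c,.d], [.b,.a,.b,.c,.d,.g,.f,.d], [.b,.a,.b,.d,.f,.c,.d], [.b,.a,.b,.d,.f,.e,.d], [.d,.f,.c,.d], [.c,.b,.a,.b,.d,.f,.e,.d], [.b,.a,.b,.d,.f,.e,.d,.c], [.c,.d,.f,.e,.d,.c],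 [.c,.d,.g,.f,.d,.c], [.b,.a,.b,.c,.d,.f,.e,.d,.c], [.f,.g,.c,.d], [.c,.d,.f,.e,.d], [.c,.d,.f,.g,.c,.d], [.f,.e,.c,.d], [.b,.a,.b,.c,.d,.f,.e,.d], [.c,.b,.a,.b,.d,.f,.e,.d,.c], [.c,.b,.a,.b,.d,.g,.f,.d], [.c,.b,.a,.b,.d,.f,.c,.d], [.b,.a,.b,.f,.e,.c,.d], [.f,.e,.c,.d,.g], [.b,.a,.b,.e,.d,.f,.c,.d,.g], [.b,.a,.b,.d,.f,.g,.d,.c,.d,.g], [.c,.b,.a,.b,.d,.f,.d,.c,.d,.g], [.b,.a,.b,.d,.f,.d,.c,.d,.g], [.d,.f,.g,.d,.c,.d,.g], [.d,.f,.d,.c,.d,.g], [.b,.a,.b,.f,.g,.d,.c,.d,.g], [.c,.b,.a,.b,.d,.f,.c,.d,.g], [.b,.a,.b,.d,.f,.e,.c,.d,.g], [.e,.d,.c,.b,.a,.b,.d,.f,.e,.c,.d], [.g,.d,.e,.c,.d,.f,.g,.d], [.e,.d,.f,.e,.c,.d,.g], [.e,.d,.f,.c,.d,.g], [.f,.g,.d,.c,.d,.g], [.f,.d,.c,.d,.g], [.b,.a,.b,.f,.d,.c,.d,.g], [.b,.a,.b,.f,.e,.d,.c,.d,.g], [.b,.a,.b,.g,.f,.d,.c,.d,.g],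 [.b,.a,.b,.g,.d,.c,.d,.g], [.g,.f,.d,.c,.d,.g], [.f,.e,.d,.c,.d,.g], [.d,.f,.e,.c,.d,.g], [.d,.f,.c,.d,.g], [.c,.d,.c,.d,.f,.g,.c,.d], [.b,.a,.b,.d,.f,.c,.d,.g], [.g,.d,.c,.d,.g], [.d,.c,.d,.g], [.b,.a,.b,.d,.c,.d,.f,.e,.d], [.d,.c,.b,.a,.b,.d,.f,.e,.c,.d], [.d,.c,.b,.a,.b,.d,.f,.e,.d,.c], [.d,.c,.d,.c,.b,.a,.b,.f,.d], [.b,.a,.b,.d,.c,.d,.g], [.c,.b,.a,.b,.d,.c,.d,.g], [.b,.a,.b,.e,.d,.c,.d,.g], [.d,.g,.f,.d,.c,.d,.g], [.d,.f,.e,.d,.c,.d,.g], [.e,.d,.c,.d,.f,.g,.d], [.d,.c,.d,.f,.e,.c,.d], [.c,.d,.c,.d,.f,.g,.d], [.d,.c,.d,.f,.g,.d], [.e,.d,.c,.d,.g], [.d,.e,.d,.c,.d,.g], [.c,.d,.c,.d,.f,.e,.d], [.d,.c,.d,.f,.e,.d], [.e,.d,.f,.d,.g,.d], [.d,.c,.b,.a,.b,.d,.f,.c,.d,.g], [.g,.d,.c,.d,.c,.b,.a,.b,.f,.d], [.b,.a,.b,.g,.d,.c,.d,.f,.g,.d], [.b,.a,.b,.c,.d,.c,.d,.f,.e,.d],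 [.b,.a,.b,.d,.c,.d,.g,.f,.d,.g], [.b,.a,.b,.e,.d,.c,.d,.f,.e,.d], [.d,.c,.d,.f,.g,.c,.d], [.g,.c,.d,.f,.g,.d], [.f,.d,.c,.d,.f,.e,.d], [.e,.d,.c,.d,.f,.e,.d], [.e,.c,.d,.f,.g,.d], [.d,.e,.c,.d,.f,.g,.d], [.d,.c,.d,.g,.f,.d,.g], [.b,.a,.b,.d,.c,.d,.f,.g,.d], [.b,.a,.b,.c,.d,.c,.d,.f,.g,.d], [.b,.a,.b,.d,.g,.f,.d,.c,.d,.g], [.b,.a,.b,.d,.c,.d,.f,.e,.c,.d], [.b,.a,.b,.e,.d,.c,.d,.f,.g,.d], [.b,.a,.b,.d,.f,.e,.d,.c,.d,.g], [.g,.d,.c,.d,.f,.e,.c,.d], [.g,.d,.c,.d,.f,.g,.d], [.e,.d,.f,.d,.c,.d,.g]],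
    ys := [427, 428, 433, 434, 961, 962, 963, 964, 965, 966, 967, 968, 969, 970, 971, 972, 973, 975, 976, 977, 980, 981, 982, 983, 984, 985, 989, 990, 991, 992, 994, 997, 998, 1003, 1004, 1015, 1016, 1018, 1020, 1023, 1028, 1029, 1039, 1040, 1042, 1044, 1047, 1048, 1054, 1055, 1064, 1177, 1178, 1179, 1180, 1181, 1183, 1184, 1185, 1190, 1191, 1192, 1210, 1238, 1239, 1240, 1251, 1278, 1279, 1289, 1290, 1297, 1298, 1299, 1302, 1303, 1304, 1306, 1310, 1315, 1323, 1325, 1326, 1437, 1446, 1449, 1494, 1495, 1496, 1567, 1568, 1569, 1570, 1571, 1572, 1573, 1574, 1575, 1576, 1577, 1578, 1579, 1580, 1581, 1582, 1583, 1584, 1586, 1588, 1589, 1590, 1591, 1592, 1593, 1594, 1595, 1598, 1599, 1648, 1653, 1654, 1655, 1656, 1661, 1662, 1663, 1664, 1665, 1666, 1667, 1668,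 1669, 1670, 1671, 1674, 1675, 1676, 1677, 1681, 1684, 1685, 1686, 1689, 1692, 1693, 1694, 1698, 1709, 1735, 1738, 1746, 1751, 1752, 1783, 1785, 1812, 1816, 1945, 1946, 1955, 1956, 1961, 1962, 1966, 1967, 1968, 1969, 1974, 1975, 1976, 1977, 1978, 1981, 1983, 1984, 1985, 1986, 1987, 1989, 1993, 1996, 1999, 2000, 2010, 2011, 2012, 2013, 2014, 2015, 2016, 2017, 2018, 2019, 2020, 2021, 2023, 2024, 2025, 2026, 2028, 2029, 2031, 2032, 2033, 2034, 2035, 2036, 2037, 2038, 2040, 2041, 2042, 2043, 2044, 2045, 2047, 2048, 2049, 2050, 2051, 2052, 2055, 2056, 2057] },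
  { p := 15,
    ts := [],
    fs := [(427, [], [.b,.c,.d,.c,.b,.a,.d,.c,.b,.f,.d,.c,.b], 4), (427, [.a], [.b,.c,.d,.c,.b,.a,.d,.c,.f,.d,.c,.b,.e], 4)],
    ws := [[], [.c,.d,.c,.d,.c], [.f,.d,.c,.d,.c], [.f,.e,.d,.c,.d,.c,.d], [.e,.d,.c,.d,.e], [.d,.g,.e,.d,.c,.d]],
    ys := [15, 147, 157, 158, 160, 735] },
  { p := 147,
    ts := [],
    fs := [(15, [], [.g], 2), (427, [], [.b,.c,.d,.c,.b,.a,.d,.c,.b,.f,.d,.c,.b], 4), (427, [.a], [.b,.c,.d,.c,.b,.a,.d,.c,.f,.d,.c,.b,.e], 4)],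
    ws := [[], [.f,.c], [.g,.f,.c,.d,.g,.c], [.e,.d,.g,.d,.c], [.g,.c,.d,.f,.g,.c]],
    ys := [147, 157, 158, 160, 735] },
  { p := 1044,
    ts := [],
    fs := [(15, [], [.g], 3), (147, [], [.g,.d,.c,.d,.c], 3), (427, [], [.b,.c,.d,.c,.b,.a,.d,.c,.b,.f,.d,.c,.b], 1), (427, [.a], [.b,.c,.d,.c,.b,.a,.d,.c,.f,.d,.c,.b,.e], 2)],
    ws := [[], [.e,.d,.g,.d,.f], [.f,.d,.g,.d,.e]],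
    ys := [1044, 2025, 2044] },
  { p := 1,
    ts := [([.a], 0)],
    fs := [(147, [], [.g,.d,.c,.d,.c], 3), (15, [], [.g], 1), (427, [], [.b,.c,.d,.c,.b,.a,.d,.c,.b,.f,.d,.c,.b], 2), (1044, [], [.b,.g,.d,.c,.b,.d,.e,.g,.d,.c,.d,.c,.b], 2)],
    ws := [[], [.d,.g,.d,.c,.d,.c,.d,.g,.c,.d,.c,.d], [.b,.a,.b,.f,.d,.c,.d,.g,.c,.d,.c,.b,.a,.b,.d,.f], [.d,.f,.g,.c,.d,.c,.d,.f,.d,.e,.c]],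
    ys := [1, 24, 28, 142] },
  { p := 9,
    ts := [],
    fs := [(1, [], [.b], 2), (15, [], [.g], 1), (427, [], [.b,.c,.d,.c,.b,.a,.d,.c,.b,.f,.d,.c,.b], 3), (1044, [], [.b,.g,.d,.c,.b,.d,.e,.g,.d,.c,.d,.c,.b], 1), (427, [.a], [.b,.c,.d,.c,.b,.a,.d,.c,.f,.d,.c,.b,.e], 2)],
    ws := [[], [.b,.a,.b,.c,.b,.a,.b,.e,.d,.g,.d,.c]],
    ys := [9, 263] },
  { p := 299,
    ts := [],
    fs := [(1, [], [.b], 4), (15, [], [.g], 1), (9, [.a], [.b,.c,.d,.c,.b,.d,.c,.d], 4), (1044, [], [.b,.g,.d,.c,.b,.d,.e,.g,.d,.c,.d,.c,.b], 4), (1044, [.a], [.b,.g,.d,.c,.b,.d,.e,.g,.d,.c,.d,.c,.b,.a], 1)],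
    ws := [[]],
    ys := [299] },
  { p := 0,
    ts := [],
    fs := [(15, [], [.g], 2), (1, [], [.b], 1), (9, [.a], [.b,.c,.d,.c,.b,.d,.c,.d], 2), (147, [], [.g,.d,.c,.d,.c], 2), (299, [], [.b,.c,.d,.c,.b,.d,.e,.f,.d,.c,.d], 2), (1044, [], [.b,.g,.d,.c,.b,.d,.e,.g,.d,.c,.d,.c,.b], 1)],
    ws := [[]],
    ys := [0] },
  { p := 32,
    ts := [],
    fs := [(0, [], [], 1), (1, [], [.b], 1), (15, [], [.g], 1), (299, [], [.b,.c,.d,.c,.b,.d,.e,.f,.d,.c,.d], 4), (299, [.a], [.b,.c,.d,.c,.b,.a,.d,.e,.f,.d,.c,.d], 4), (147, [], [.g,.d,.c,.d,.c], 1)],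
    ws := [[]],
    ys := [32] },
  { p := 8,
    ts := [],
    fs := [(0, [], [], 2), (15, [], [.g], 1), (1, [], [.b], 1), (32, [], [.b,.g,.d,.c,.f,.d], 2), (147, [], [.g,.d,.c,.d,.c], 2), (1044, [], [.b,.g,.d,.c,.b,.d,.e,.g,.d,.c,.d,.c,.b], 2), (9, [], [.b,.c,.d,.c,.b,.a,.d,.c,.b], 2)],
    ws := [[]],
    ys := [8] }]

/-- levels for the centralizer of `c, d, e, f, g` -/
def lvL : List Lvl := [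
  { p := 8,
    ts := [([.e,.c,.d,.c], 0), ([.f,.d,.g,.d,.c], 4)],
    fs := [],
    ws := [[], [.a], [.f,.d,.c,.d,.f,.c,.d,.c,.d,.f,.c,.d,.c,.d,.c,.a], [.f,.d,.c,.d,.f,.c,.d,.c,.d,.f,.c,.d,.c,.d,.c]],
    ys := [8, 60, 999, 1019] },
  { p := 0,
    ts := [],
    fs := [(8, [.d,.e,.d], [.b,.c,.d,.c,.b], 2), (8, [.g,.d,.f], [.b,.c,.d,.c,.b,.a,.d,.e,.f,.d,.g], 4), (8, [.f,.d,.e,.d], [.b,.c,.d,.c,.b,.f], 2)],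
    ws := [[]],
    ys := [0] },
  { p := 1,
    ts := [],
    fs := [(0, [], [], 1), (0, [.c,.d,.c,.d,.g], [.g,.d,.c,.d,.c], 3), (8, [.g,.e,.d], [.b,.c,.d,.c,.b,.d,.g], 4), (0, [.c,.d,.g], [.g,.d,.c], 1), (0, [.e,.d,.g], [.g,.d,.e], 1)],
    ws := [[]],
    ys := [1] },
  { p := 32,
    ts := [],
    fs := [(0, [], [], 1), (1, [.d,.f,.c,.d,.g], [.b,.g,.d,.c,.f,.d], 0)],
    ws := [[]],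
    ys := [32] }]

/-- levels for the kernel on the 21 points -/
def lvK : List Lvl := [
  { p := 8,
    ts := [],
    fs := [(0, [], [], 2), (18, [], [.g,.d,.f], 3), (19, [], [.g,.d,.e,.f], 2)],
    ws := [[], [.a], [.f,.d,.c,.d,.f,.c,.d,.c,.d,.f,.c,.d,.c,.d,.c,.a], [.f,.d,.c,.d,.f,.c,.d,.c,.d,.f,.c,.d,.c,.d,.c]],
    ys := [8, 60, 999, 1019] },
  { p := 2,
    ts := [],
    fs := [(0, [], [], 1), (146, [], [.g,.d,.c,.d], 3), (15, [], [.g], 1), (160, [], [.g,.d,.c,.d,.e], 3), (735, [], [.g,.d,.c,.d,.c,.e,.d], 3), (8, [.a], [.b,.c,.d,.c,.b,.d,.e], 2)],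
    ws := [[]],
    ys := [2] },
  { p := 1,
    ts := [],
    fs := [(0, [], [], 1), (147, [], [.g,.d,.c,.d,.c], 3), (15, [], [.g], 1), (730, [], [.g,.d,.c,.d,.c,.e], 3), (735, [], [.g,.d,.c,.d,.c,.e,.d], 3), (2, [], [.b,.c], 1)],
    ws := [[]],
    ys := [1] },
  { p := 32,
    ts := [],
    fs := [(0, [], [], 1), (18, [], [.g,.d,.f], 3), (2, [], [.b,.c], 2), (22, [], [.g,.d,.c], 3), (1, [], [.b], 1)],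
    ws := [[]],
    ys := [32] }]

/-- levels for the centralizer of `a, d, e, f, g` -/
def lvD : List Lvl := [
  { p := 32,
    ts := [([.g,.d,.e], 0), ([.f,.a], 1)],
    fs := [],
    ws := [[.f,.d,.c,.d,.f,.c,.d,.c,.d,.f,.c,.d,.c,.d,.c,.b,.a,.b], [], [.f,.d,.c,.d,.f,.c,.d,.c,.d,.f,.c,.d,.c,.d,.c], [.b,.a,.b]],
    ys := [29, 32, 50, 143] },
  { p := 8,
    ts := [],
    fs := [(32, [.e,.d,.f,.d], [.b,.g,.d,.c,.d,.e], 3), (32, [.f,.e], [.b,.c,.d,.c,.f,.d,.c,.e], 4), (32, [.e,.d,.g,.d,.f], [.b,.g,.d,.c,.e,.d,.g,.f], 4)],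
    ws := [[], [.a]],
    ys := [8, 60] },
  { p := 0,
    ts := [],
    fs := [(32, [.g,.d,.f,.d], [.b,.g,.d,.c,.d,.g], 4), (32, [.g,.e,.d,.f], [.b,.g,.d,.c,.d,.g,.f], 4), (32, [.d,.g,.e,.d,.f], [.b,.g,.d,.c,.d,.g,.f,.d], 4)],
    ws := [[]],
    ys := [0] },
  { p := 1,
    ts := [],
    fs := [(0, [], [], 1), (0, [.g], [.g], 1), (8, [.g,.e,.a], [.b,.c,.d,.c,.b,.d,.g], 4), (8, [.g,.a], [.b,.c,.d,.c,.b,.d,.e,.g], 4), (0, [.f,.d,.g], [.g,.d,.f], 1)],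
    ws := [[]],
    ys := [1] }]

end Cfsg.Agent.KFacts.He.TwoAData
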