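import Mathlib
import Cfsg.Agent.KFacts.He.TwoAData

/-!
# The kernel checks for the centralizer of the involution `a` of the Held group
-/

set_option autoImplicit false

namespace Cfsg.Agent.KFacts.He.TwoAChk

open Cfsg.Spor.He Cfsg.Agent.KFacts.He.Lv Cfsg.Agent.KFacts.He.TwoAData

/-- the 21 points -/
def om : List ℕ := [0, 15, 17, 18, 19, 20, 21, 22, 146, 147, 148, 153, 157, 158, 159, 160, 161, 164, 730, 735, 736]

set_option maxRecDepth 100000

theorem chkA : chkAll [.a] [] lvA = true := by decide +kernel

theorem chkL : chkAll [.c, .d, .e, .f, .g] [] lvL = true := by decide +kernel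

theorem chkK : chkAll [.a] om lvK = true := by decide +kernel

theorem chkD : chkAll [.a, .d, .e, .f, .g] [] lvD = true := by decide +kernel

end Cfsg.Agent.KFacts.He.TwoAChk
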