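import Mathlib
import Cfsg.Agent.KFacts.He.TwoAChk

/-!
# The centralizer of the involution `a` of the Held group

`L = ⟨c, d, e, f, g⟩` is perfect, `C(a) = L ∪ L s` with `s = b a b`, `C(L) = {1, a, v, a v}`, and an
automorphism trivial on `L` is the conjugation by an element of `C(L)`.
-/

set_option autoImplicit false

namespace Cfsg.Agent.KFacts.He.TwoACent

open Subgroup
open Cfsg.Spor Cfsg.Spor.He Cfsg.Agent.SporadicB.HePerm Cfsg.Agent.FixBN.HeStab
open Cfsg.Agent.KFacts.He.Lv Cfsg.Agent.KFacts.He.TwoAData Cfsg.Agent.KFacts.He.TwoAChk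
open scoped commutatorElement

/-- the group `⟨c, d, e, f, g⟩` -/
def L : Subgroup Cfsg.Spor.He := closure {x | ∃ m : Gen, (m = .c ∨ m = .d ∨ m = .e ∨ m = .f ∨ m = .g) ∧ gn m = x}

/-- the element `b a b` -/
def s : Cfsg.Spor.He := wd [.b, .a, .b]

/-- the word of the second central involution of `L` -/
def vW : List Gen := [.f,.d,.c,.d,.f,.c,.d,.c,.d,.f,.c,.d,.c,.d,.c]

/-- the second central involution of `L` -/
def v : Cfsg.Spor.He := wd vW

theorem gn_mul_self (m : Gen) : gn m * gn m = 1 := by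
  have h := eq_of_chkB (v := [m, m]) (w := []) (by cases m <;> decide +kernel)
  rwa [wd_cons, wd_one, wd_nil] at h

theorem gn_inv (m : Gen) : (gn m)⁻¹ = gn m := inv_eq_of_mul_eq_one_left (gn_mul_self m)

theorem gn_mem_L {m : Gen} (h : m = .c ∨ m = .d ∨ m = .e ∨ m = .f ∨ m = .g) : gn m ∈ L :=
  subset_closure ⟨m, h, rfl⟩

/-- the letters of `L` -/
def lL : List Gen := [.c, .d, .e, .f, .g]

theorem mem_lL {m : Gen} : m ∈ lL ↔ (m = .c ∨ m = .d ∨ m = .e ∨ m = .f ∨ m = .g) := by
  simp [lL]

theorem wd_mem_L {w : List Gen} (h : ovr lL w = true) : wd w ∈ L := by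
  have h1 := of_ovr h
  induction w with
  | nil => rw [wd_nil]; exact L.one_mem
  | cons x w ih =>
    rw [wd_cons]
    refine L.mul_mem (gn_mem_L (mem_lL.mp (h1 x List.mem_cons_self))) (ih ?_ ?_)
    · unfold ovr at h ⊢
      rw [List.all_cons, Bool.and_eq_true] at h
      exact h.2
    · exact fun y hy => h1 y (List.mem_cons_of_mem _ hy)

theorem s_mul_self : s * s = 1 := by
  have h := eq_of_chkB (v := [.b, .a, .b] ++ [.b, .a, .b]) (w := []) (by decide +kernel)
  rwa [wd_append, wd_nil] at h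

theorem s_inv : s⁻¹ = s := inv_eq_of_mul_eq_one_left s_mul_self

theorem a_mem_L : gn .a ∈ L := by
  have h := eq_of_chkB (v := [.a]) (w := powWord [.c, .d] 5) (by decide +kernel)
  rw [wd_one] at h
  rw [h]
  exact wd_mem_L (by decide)

theorem v_mem_L : v ∈ L := wd_mem_L (by decide)

theorem s_comm_a : s * gn .a = gn .a * s := by
  have h := eq_of_chkB (v := [.b, .a, .b] ++ [.a]) (w := .a :: [.b, .a, .b]) (by decide +kernel)
  rwa [wd_append, wd_one, wd_cons] at h

theorem s_conj_mem {x : Cfsg.Spor.He} (hx : x ∈ L) : s * x * s ∈ L := by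
  induction hx using closure_induction with
  | mem x hx =>
    obtain ⟨m, hm, rfl⟩ := hx
    rcases hm with rfl | rfl | rfl | rfl | rfl
    · have h := eq_of_chkB (v := [.b, .a, .b] ++ [.c] ++ [.b, .a, .b])
        (w := [.e, .d, .c, .d, .c, .d, .c, .d, .c, .d]) (by decide +kernel)
      rw [wd_append, wd_append, wd_one] at h
      show wd [.b, .a, .b] * gn .c * wd [.b, .a, .b] ∈ L
      rw [h]
      exact wd_mem_L (by decide)
    · have h := eq_of_chkB (v := [.b, .a, .b] ++ [.d] ++ [.b, .a, .b]) (w := [.d]) (by decide +kernel)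
      rw [wd_append, wd_append, wd_one] at h
      show wd [.b, .a, .b] * gn .d * wd [.b, .a, .b] ∈ L
      rw [h]
      exact gn_mem_L (by simp)
    · have h := eq_of_chkB (v := [.b, .a, .b] ++ [.e] ++ [.b, .a, .b]) (w := [.e]) (by decide +kernel)
      rw [wd_append, wd_append, wd_one] at h
      show wd [.b, .a, .b] * gn .e * wd [.b, .a, .b] ∈ L
      rw [h]
      exact gn_mem_L (by simp)
    · have h := eq_of_chkB (v := [.b, .a, .b] ++ [.f] ++ [.b, .a, .b]) (w := [.f]) (by decide +kernel)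
      rw [wd_append, wd_append, wd_one] at h
      show wd [.b, .a, .b] * gn .f * wd [.b, .a, .b] ∈ L
      rw [h]
      exact gn_mem_L (by simp)
    · have h := eq_of_chkB (v := [.b, .a, .b] ++ [.g] ++ [.b, .a, .b]) (w := [.g]) (by decide +kernel)
      rw [wd_append, wd_append, wd_one] at h
      show wd [.b, .a, .b] * gn .g * wd [.b, .a, .b] ∈ L
      rw [h]
      exact gn_mem_L (by simp)
  | one => rw [mul_one, s_mul_self]; exact L.one_mem
  | mul x y _ _ hx hy =>
    have h : s * (x * y) * s = s * x * s * (s * y * s) := by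
      calc s * (x * y) * s = s * x * (1 * y) * s := by group
        _ = s * x * ((s * s) * y) * s := by rw [s_mul_self]
        _ = s * x * s * (s * y * s) := by group
    rw [h]
    exact L.mul_mem hx hy
  | inv x _ hx =>
    have h : s * x⁻¹ * s = (s * x * s)⁻¹ := by
      rw [mul_inv_rev, mul_inv_rev, s_inv]
      group
    rw [h]
    exact L.inv_mem hx

/-- the subgroup `L ∪ L s` -/
def C : Subgroup Cfsg.Spor.He where
  carrier := {x | x ∈ L ∨ x * s ∈ L}
  one_mem' := Or.inl L.one_mem
  mul_mem' := by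
    intro x y hx hy
    have key : ∀ z : Cfsg.Spor.He, s * (z * s) * s = s * z := fun z => by
      calc s * (z * s) * s = s * z * (s * s) := by group
        _ = s * z := by rw [s_mul_self, mul_one]
    rcases hx with hx | hx <;> rcases hy with hy | hy
    · exact Or.inl (L.mul_mem hx hy)
    · refine Or.inr ?_
      rw [mul_assoc]
      exact L.mul_mem hx hy
    · refine Or.inr ?_
      have h : x * y * s = x * s * (s * y * s) := by
        calc x * y * s = x * (1 * y) * s := by group
          _ = x * ((s * s) * y) * s := by rw [s_mul_self]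
          _ = x * s * (s * y * s) := by group
      rw [h]
      exact L.mul_mem hx (s_conj_mem hy)
    · refine Or.inl ?_
      have h : x * y = x * s * (s * (y * s) * s) := by
        rw [key]
        calc x * y = x * (1 * y) := by group
          _ = x * ((s * s) * y) := by rw [s_mul_self]
          _ = x * s * (s * y) := by group
      rw [h]
      exact L.mul_mem hx (s_conj_mem hy)
  inv_mem' := by
    intro x hx
    rcases hx with hx | hx
    · exact Or.inl (L.inv_mem hx)
    · refine Or.inr ?_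
      have h : x⁻¹ * s = s * (x * s)⁻¹ * s := by
        rw [mul_inv_rev, s_inv]
        calc x⁻¹ * s = 1 * x⁻¹ * s := by group
          _ = (s * s) * x⁻¹ * s := by rw [s_mul_self]
          _ = s * (s * x⁻¹) * s := by group
      rw [h]
      exact s_conj_mem (L.inv_mem hx)

theorem mem_C {x : Cfsg.Spor.He} : x ∈ C ↔ (x ∈ L ∨ x * s ∈ L) := Iff.rfl

theorem L_le_C : L ≤ C := fun _ h => Or.inl h

theorem s_mem_C : s ∈ C := Or.inr (by rw [s_mul_self]; exact L.one_mem)

/-- the word is a product of the letters of `L` and of `b a b` -/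
def inC : List Gen → Bool
  | [] => true
  | .b :: .a :: .b :: w => inC w
  | .c :: w => inC w
  | .d :: w => inC w
  | .e :: w => inC w
  | .f :: w => inC w
  | .g :: w => inC w
  | _ => false

theorem wd_mem_C (w : List Gen) : inC w = true → wd w ∈ C := by
  induction w using inC.induct with
  | case1 => intro _; rw [wd_nil]; exact C.one_mem
  | case2 w ih =>
    intro h
    have e : wd ([.b, .a, .b] ++ w) = s * wd w := by rw [wd_append]; rfl
    show wd ([.b, .a, .b] ++ w) ∈ C
    rw [e]
    exact C.mul_mem s_mem_C (ih h)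
  | case3 w ih => intro h; rw [wd_cons]; exact C.mul_mem (L_le_C (gn_mem_L (by simp))) (ih h)
  | case4 w ih => intro h; rw [wd_cons]; exact C.mul_mem (L_le_C (gn_mem_L (by simp))) (ih h)
  | case5 w ih => intro h; rw [wd_cons]; exact C.mul_mem (L_le_C (gn_mem_L (by simp))) (ih h)
  | case6 w ih => intro h; rw [wd_cons]; exact C.mul_mem (L_le_C (gn_mem_L (by simp))) (ih h)
  | case7 w ih => intro h; rw [wd_cons]; exact C.mul_mem (L_le_C (gn_mem_L (by simp))) (ih h)
  | case8 w h1 h2 h3 h4 h5 h6 h7 =>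
    intro h
    rw [inC] at h
    · exact absurd h (by decide)
    all_goals assumption

theorem inC_lvA : (lvA.all fun l => l.ws.all inC) = true := by decide +kernel

/-- **The centralizer of `a`.** -/
theorem mem_C_of_comm {x : Cfsg.Spor.He} (h : x * gn .a = gn .a * x) : x ∈ C := by
  have h1 : Pr lvA x := mem_of_chk chkA (by
    intro m hm
    rw [List.mem_singleton] at hm
    rw [hm]
    exact h) (by intro f hf; exact absurd hf List.not_mem_nil)
  refine mem_of_pr (fun l hl w hw => wd_mem_C w ?_) h1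
  have h2 := inC_lvA
  rw [List.all_eq_true] at h2
  have h3 := h2 l hl
  rw [List.all_eq_true] at h3
  exact h3 w hw

/-- `L` commutes with `a` -/
theorem L_comm_a {x : Cfsg.Spor.He} (hx : x ∈ L) : x * gn .a = gn .a * x := by
  induction hx using closure_induction with
  | mem x hx =>
    obtain ⟨m, hm, rfl⟩ := hx
    have h := eq_of_chkB (v := [m, .a]) (w := [.a, m]) (by
      rcases hm with rfl | rfl | rfl | rfl | rfl <;> decide +kernel)
    rwa [wd_cons, wd_one, wd_cons, wd_one] at h
  | one => rw [one_mul, mul_one]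
  | mul x y _ _ hx hy => rw [mul_assoc, hy, ← mul_assoc, hx, mul_assoc]
  | inv x _ hx => exact ((show Commute x (gn .a) from hx).inv_left)

/-- `L` commutes with `v` -/
theorem L_comm_v {x : Cfsg.Spor.He} (hx : x ∈ L) : x * v = v * x := by
  induction hx using closure_induction with
  | mem x hx =>
    obtain ⟨m, hm, rfl⟩ := hx
    have h := eq_of_chkB (v := [m] ++ vW) (w := vW ++ [m]) (by
      rcases hm with rfl | rfl | rfl | rfl | rfl <;> decide +kernel)
    rwa [wd_append, wd_one, wd_append, wd_one] at h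
  | one => rw [one_mul, mul_one]
  | mul x y _ _ hx hy => rw [mul_assoc, hy, ← mul_assoc, hx, mul_assoc]
  | inv x _ hx => exact ((show Commute x v from hx).inv_left)

theorem norm {c : Cfsg.Spor.He} (hc : c * gn .a = gn .a * c) {l : Cfsg.Spor.He} (hl : l ∈ L) :
    c * l * c⁻¹ ∈ L := by
  rcases mem_C_of_comm hc with h | h
  · exact L.mul_mem (L.mul_mem h hl) (L.inv_mem h)
  · have e : c * l * c⁻¹ = c * s * (s * l * s) * (c * s)⁻¹ := by
      rw [mul_inv_rev, s_inv]
      calc c * l * c⁻¹ = c * (1 * l * 1) * c⁻¹ := by group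
        _ = c * ((s * s) * l * (s * s)) * c⁻¹ := by rw [s_mul_self]
        _ = c * s * (s * l * s) * (s * c⁻¹) := by group
    rw [e]
    exact L.mul_mem (L.mul_mem h (s_conj_mem hl)) (L.inv_mem h)

theorem two {c d : Cfsg.Spor.He} (hc : c * gn .a = gn .a * c) (hd : d * gn .a = gn .a * d) :
    c ∈ L ∨ d ∈ L ∨ c * d ∈ L := by
  rcases mem_C_of_comm hc with h | h
  · exact Or.inl h
  rcases mem_C_of_comm hd with h' | h'
  · exact Or.inr (Or.inl h')
  refine Or.inr (Or.inr ?_)
  have e : c * d = c * s * (s * (d * s) * s) := by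
    calc c * d = c * (1 * d * 1) := by group
      _ = c * ((s * s) * d * (s * s)) := by rw [s_mul_self]
      _ = c * s * (s * (d * s) * s) := by group
  rw [e]
  exact L.mul_mem h (s_conj_mem h')

/-! ### the centralizer of `L` -/

/-- the group `{1, a, v, a v}` -/
def V : Subgroup Cfsg.Spor.He := centralizer (L : Set Cfsg.Spor.He)

theorem mem_V {x : Cfsg.Spor.He} : x ∈ V ↔ ∀ l ∈ L, l * x = x * l := mem_centralizer_iff

theorem a_mem_V : gn .a ∈ V := mem_V.mpr fun _ hl => L_comm_a hl

theorem v_mem_V : v ∈ V := mem_V.mpr fun _ hl => L_comm_v hl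

theorem V_eq {x : Cfsg.Spor.He} (hx : x ∈ V) : x = 1 ∨ x = gn .a ∨ x = v ∨ x = v * gn .a := by
  have h1 : Pr lvL x := mem_of_chk chkL (by
    intro m hm
    exact (mem_V.mp hx _ (gn_mem_L (mem_lL.mp hm))).symm) (by intro f hf; exact absurd hf List.not_mem_nil)
  obtain ⟨x1, hx1, x2', ⟨x2, hx2, x3', ⟨x3, hx3, x4', ⟨x4, hx4, x5, hx5, rfl⟩, rfl⟩, rfl⟩, rfl⟩ := h1
  rw [show x5 = 1 from hx5]
  have e2 : x2 = [] := by simpa [lvL] using hx2
  have e3 : x3 = [] := by simpa [lvL] using hx3
  have e4 : x4 = [] := by simpa [lvL] using hx4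
  rw [e2, e3, e4, wd_nil, mul_one, mul_one, mul_one, mul_one]
  have e1 : x1 = [] ∨ x1 = [.a] ∨ x1 = vW ++ [.a] ∨ x1 = vW := by
    simpa [lvL, vW] using hx1
  rcases e1 with rfl | rfl | rfl | rfl
  · exact Or.inl wd_nil
  · exact Or.inr (Or.inl (wd_one _))
  · exact Or.inr (Or.inr (Or.inr (by rw [wd_append, wd_one]; rfl)))
  · exact Or.inr (Or.inr (Or.inl rfl))

/-! ### `V` has order four, `L` is perfect -/

theorem v_mul_self : v * v = 1 := by
  have h := eq_of_chkB (v := vW ++ vW) (w := []) (by decide +kernel)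
  rwa [wd_append, wd_nil] at h

theorem ne_of_act {x y : List Gen} (i : Fin 2058) (h : Nat.beq (act x i) (act y i) = false) :
    wd x ≠ wd y := by
  intro he
  rw [act_eq, act_eq, he, Nat.beq_refl] at h
  exact absurd h (by decide)

theorem a_ne_one : gn .a ≠ 1 := by
  rw [← wd_one, ← wd_nil]; exact ne_of_act 8 (by decide +kernel)

theorem v_ne_one : v ≠ 1 := by
  rw [← wd_nil]; exact ne_of_act 8 (by decide +kernel)

theorem v_ne_a : v ≠ gn .a := by
  rw [← wd_one]; exact ne_of_act 8 (by decide +kernel)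

theorem va_mem_V : v * gn .a ∈ V := V.mul_mem v_mem_V a_mem_V

theorem V_coe : (V : Set Cfsg.Spor.He) = {1, gn .a, v, v * gn .a} := by
  ext x
  constructor
  · intro hx
    rcases V_eq hx with h | h | h | h
    · exact Or.inl h
    · exact Or.inr (Or.inl h)
    · exact Or.inr (Or.inr (Or.inl h))
    · exact Or.inr (Or.inr (Or.inr h))
  · intro hx
    rcases hx with h | h | h | h
    · rw [h]; exact V.one_mem
    · rw [h]; exact a_mem_V
    · rw [h]; exact v_mem_V
    · rw [h]; exact va_mem_V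

theorem card_V : Nat.card V = 4 := by
  classical
  have h1 : (V : Set Cfsg.Spor.He) = (({1, gn .a, v, v * gn .a} : Finset Cfsg.Spor.He) : Set Cfsg.Spor.He) := by
    rw [V_coe]; simp
  have h2 : Nat.card V = ({1, gn .a, v, v * gn .a} : Finset Cfsg.Spor.He).card := by
    rw [← Nat.card_eq_finsetCard]
    exact Nat.card_congr (Equiv.setCongr h1)
  rw [h2, Finset.card_insert_of_notMem, Finset.card_insert_of_notMem, Finset.card_insert_of_notMem,
    Finset.card_singleton]
  · rw [Finset.mem_singleton]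
    intro h
    exact a_ne_one (left_eq_mul.mp h)
  · rw [Finset.mem_insert, Finset.mem_singleton]
    rintro (h | h)
    · exact v_ne_a h.symm
    · exact v_ne_one (right_eq_mul.mp h)
  · rw [Finset.mem_insert, Finset.mem_insert, Finset.mem_singleton]
    rintro (h | h | h)
    · exact a_ne_one h.symm
    · exact v_ne_one h.symm
    · have h3 : v = (gn .a)⁻¹ := eq_inv_of_mul_eq_one_left h.symm
      rw [gn_inv] at h3
      exact v_ne_a h3

theorem V_le_L : V ≤ L := by
  intro x hx
  rcases V_eq hx with rfl | rfl | rfl | rfl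
  · exact L.one_mem
  · exact a_mem_L
  · exact v_mem_L
  · exact L.mul_mem v_mem_L a_mem_L

/-- `s` moves `v` to `v a` -/
theorem s_conj_v : s * v * s⁻¹ * v⁻¹ = gn .a := by
  have h := eq_of_chkB (v := [.b, .a, .b] ++ vW ++ [.b, .a, .b] ++ vW) (w := [.a]) (by decide +kernel)
  rw [wd_append, wd_append, wd_append, wd_one] at h
  rw [s_inv, inv_eq_of_mul_eq_one_left v_mul_self]
  exact h

/-- a relation in `L` -/
theorem conj_mem_comm {x y z : Cfsg.Spor.He} (hz : z ∈ L) (hx : x ∈ ⁅L, L⁆) (h : y = z * x * z⁻¹) : y ∈ ⁅L, L⁆ := by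
  have h1 : y = ⁅z, x⁆ * x := by rw [h, commutatorElement_def]; group
  rw [h1]
  exact (⁅L, L⁆).mul_mem (commutator_mem_commutator hz (commutator_le_self L hx)) hx

theorem perf : ⁅L, L⁆ = L := by
  apply le_antisymm (commutator_le_self L)
  have mc := gn_mem_L (m := .c) (by simp)
  have md := gn_mem_L (m := .d) (by simp)
  have me := gn_mem_L (m := .e) (by simp)
  have mf := gn_mem_L (m := .f) (by simp)
  have mg := gn_mem_L (m := .g) (by simp)
  have he : gn .e ∈ ⁅L, L⁆ := by
    have h := eq_of_chkB (v := [.e]) (w := [.f, .g, .f, .g]) (by decide +kernel)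
    rw [wd_one, wd_cons, wd_cons, wd_cons, wd_one] at h
    have h1 : gn .e = ⁅gn .f, gn .g⁆ := by
      rw [commutatorElement_def, gn_inv, gn_inv, h]; group
    rw [h1]
    exact commutator_mem_commutator mf mg
  have hd : gn .d ∈ ⁅L, L⁆ := by
    have h := eq_of_chkB (v := [.d]) (w := [.e, .d, .e, .d, .e]) (by decide +kernel)
    rw [wd_one, wd_cons, wd_cons, wd_cons, wd_cons, wd_one] at h
    refine conj_mem_comm (z := gn .e * gn .d) (L.mul_mem me md) he ?_
    rw [mul_inv_rev, gn_inv, gn_inv]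
    exact h.trans (by group)
  have hf : gn .f ∈ ⁅L, L⁆ := by
    have h := eq_of_chkB (v := [.f]) (w := [.d, .f, .d, .f, .d]) (by decide +kernel)
    rw [wd_one, wd_cons, wd_cons, wd_cons, wd_cons, wd_one] at h
    refine conj_mem_comm (z := gn .d * gn .f) (L.mul_mem md mf) hd ?_
    rw [mul_inv_rev, gn_inv, gn_inv]
    exact h.trans (by group)
  have hg : gn .g ∈ ⁅L, L⁆ := by
    have h := eq_of_chkB (v := [.g]) (w := [.d, .g, .d, .g, .d]) (by decide +kernel)
    rw [wd_one, wd_cons, wd_cons, wd_cons, wd_cons, wd_one] at h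
    refine conj_mem_comm (z := gn .d * gn .g) (L.mul_mem md mg) hd ?_
    rw [mul_inv_rev, gn_inv, gn_inv]
    exact h.trans (by group)
  have hcx : ∀ {x : Cfsg.Spor.He}, x ∈ ⁅L, L⁆ → gn .c * x * gn .c ∈ ⁅L, L⁆ := fun {x} hx =>
    conj_mem_comm mc hx (by rw [gn_inv])
  have hc : gn .c ∈ ⁅L, L⁆ := by
    -- `e d c d e d c d c d e d c d c = 1`
    have h := eq_of_chkB (v := [.c]) (w := [.e, .d] ++ ([.c, .d, .e, .d, .c] ++ [.d] ++ ([.c] ++ [.d, .e, .d] ++ [.c]) ++ [.d]))
      (by decide +kernel)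
    rw [wd_one] at h
    rw [h]
    have m1 : wd [.e, .d] ∈ ⁅L, L⁆ := by
      rw [wd_cons, wd_one]; exact (⁅L, L⁆).mul_mem he hd
    have m2 : wd [.d, .e, .d] ∈ ⁅L, L⁆ := by
      rw [wd_cons, wd_cons, wd_one]; exact (⁅L, L⁆).mul_mem hd ((⁅L, L⁆).mul_mem he hd)
    have m3 : wd ([.c] ++ [.d, .e, .d] ++ [.c]) ∈ ⁅L, L⁆ := by
      rw [wd_append, wd_append, wd_one]; exact hcx m2
    have m4 : wd [.c, .d, .e, .d, .c] ∈ ⁅L, L⁆ := m3
    rw [wd_append, wd_append, wd_append, wd_append, wd_one]
    exact (⁅L, L⁆).mul_mem m1 ((⁅L, L⁆).mul_mem ((⁅L, L⁆).mul_mem ((⁅L, L⁆).mul_mem m4 hd) m3) hd)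
  unfold L at *
  rw [closure_le]
  rintro x ⟨m, hm, rfl⟩
  rcases hm with rfl | rfl | rfl | rfl | rfl
  · exact hc
  · exact hd
  · exact he
  · exact hf
  · exact hg

end Cfsg.Agent.KFacts.He.TwoACent
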