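import Mathlib
import Cfsg.Agent.KFacts.He.TwoACent
import Cfsg.Agent.SporadicA.PlaneFour
import Cfsg.Agent.ONType.PslCard
import Cfsg.Agent.S0249

/-!
# The group `L` of the Held group modulo its centre is `PSL(3,4)`

`L = ⟨c, d, e, f, g⟩` acts on 21 of the 2058 points as `PSL(3,4)` on the points of the projective plane of
order four, and the kernel is the centre `V` of `L`.
-/

set_option autoImplicit false

namespace Cfsg.Agent.KFacts.He.TwoAPlane

open Subgroup Cfsg
open Cfsg.Spor Cfsg.Spor.He Cfsg.Agent.SporadicB.HePerm Cfsg.Agent.FixBN.HeStab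
open Cfsg.Agent.KFacts.He.Lv Cfsg.Agent.KFacts.He.TwoAData Cfsg.Agent.KFacts.He.TwoAChk
open Cfsg.Agent.KFacts.He.TwoACent
open Cfsg.Agent.SporadicA.FieldFour Cfsg.Agent.SporadicA.PlaneFour
open Cfsg.Agent.ONType.Psl (SL3 PSL3 tm T)

/-- the point with the given number in the plane -/
def bt : List ℕ := [0, 0, 17, 15, 0, 160, 153, 22, 20, 21, 147, 735, 146, 161, 18, 157, 730, 159, 158, 164, 736, 148, 19, 0]

/-- the matrix of the generator `c` -/
def mC : Matrix (Fin 3) (Fin 3) F4 := ![![.o, .z, .v], ![.z, .o, .o], ![.z, .z, .o]]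

/-- the matrix of the generator `d` -/
def mD : Matrix (Fin 3) (Fin 3) F4 := ![![.o, .z, .z], ![.z, .z, .v], ![.z, .w, .z]]

/-- the matrix of the generator `e` -/
def mE : Matrix (Fin 3) (Fin 3) F4 := ![![.o, .z, .w], ![.z, .o, .v], ![.z, .z, .o]]

/-- the matrix of the generator `f` -/
def mF : Matrix (Fin 3) (Fin 3) F4 := ![![.o, .z, .z], ![.z, .o, .v], ![.z, .z, .o]]

/-- the matrix of the generator `g` -/
def mG : Matrix (Fin 3) (Fin 3) F4 := ![![.z, .w, .z], ![.o, .z, .z], ![.z, .z, .v]]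

/-- words of transvections, entries `1` -/
def tw1 : Fin 3 → Fin 3 → List Gen
  | 0, 1 => [.f,.e,.d,.c,.d,.f,.e,.d,.c,.d]
  | 0, 2 => [.d,.f,.d,.e,.d,.c,.d,.f,.d,.e,.d,.c]
  | 1, 0 => [.d,.f,.g,.d,.e,.c,.d,.g,.f,.d]
  | 1, 2 => [.d,.f,.e,.d,.c,.d,.f,.e,.d]
  | 2, 0 => [.f,.g,.d,.c,.d,.g,.f]
  | 2, 1 => [.f,.d,.e,.d,.c,.d,.f,.e]
  | _, _ => []

/-- words of transvections, entries `w` -/
def tw2 : Fin 3 → Fin 3 → List Gen
  | 0, 1 => [.c,.d,.e,.c,.d,.f,.d,.e,.d,.c,.d,.c]
  | 0, 2 => [.f,.e]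
  | 1, 0 => [.g,.d,.f,.e,.d,.g]
  | 1, 2 => [.d,.f,.d,.e,.d,.c,.d,.f,.e,.d]
  | 2, 0 => [.f,.g,.d,.e,.c,.d,.g,.f]
  | 2, 1 => [.d,.f,.d]
  | _, _ => []

/-- words of transvections -/
def tw (i j : Fin 3) : F4 → List Gen
  | .z => []
  | .o => tw1 i j
  | .w => tw2 i j
  | .v => tw1 i j ++ tw2 i j

/-- matrix times vector -/
def mv (M : Matrix (Fin 3) (Fin 3) F4) (v : V3) : V3 := fun i => M i 0 * v 0 + M i 1 * v 1 + M i 2 * v 2

theorem mulVec_eq (M : Matrix (Fin 3) (Fin 3) F4) (v : V3) : M.mulVec v = mv M v := by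
  funext i
  simp only [Matrix.mulVec, dotProduct, Fin.sum_univ_three, mv]

/-- the number of the point of the 2058 points attached to a point of the plane -/
def bn (q : GolayPt) : ℕ := bt.getD (idx q) 0

theorem bn_lt (q : GolayPt) : bn q < 2058 := by revert q; decide +kernel

theorem bn_inj {q r : GolayPt} (hq : IsPlanePt q) (hr : IsPlanePt r) (h : bn q = bn r) : q = r := by
  revert q r; decide +kernel

theorem om_eq : ∀ f ∈ om, ∃ q : GolayPt, IsPlanePt q ∧ bn q = f := by decide +kernel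

/-- the point of the 2058 points attached to a point of the plane -/
def be (q : GolayPt) : Fin 2058 := ⟨bn q, bn_lt q⟩

/-- the matrix induces the same permutation as the word -/
def chkM (w : List Gen) (M : Matrix (Fin 3) (Fin 3) F4) : Prop :=
  ∀ q : GolayPt, IsPlanePt q → Nat.beq (act w (bn q)) (bn (ptOf (mv M (rep q)))) = true

theorem chkC : chkM [.c] mC := by unfold chkM; decide +kernel
theorem chkD' : chkM [.d] mD := by unfold chkM; decide +kernel
theorem chkE : chkM [.e] mE := by unfold chkM; decide +kernel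
theorem chkF : chkM [.f] mF := by unfold chkM; decide +kernel
theorem chkG : chkM [.g] mG := by unfold chkM; decide +kernel

theorem chkT : ∀ i j : Fin 3, i ≠ j → ∀ c : F4, chkM (tw i j c) (tm i j c) := by
  unfold chkM; decide +kernel

theorem ovr_tw : ∀ i j : Fin 3, ∀ c : F4, ovr lL (tw i j c) = true := by decide +kernel

theorem det_mC : mC.det = 1 := by rw [Matrix.det_fin_three]; decide +kernel
theorem det_mD : mD.det = 1 := by rw [Matrix.det_fin_three]; decide +kernel
theorem det_mE : mE.det = 1 := by rw [Matrix.det_fin_three]; decide +kernel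
theorem det_mF : mF.det = 1 := by rw [Matrix.det_fin_three]; decide +kernel
theorem det_mG : mG.det = 1 := by rw [Matrix.det_fin_three]; decide +kernel

theorem isPlanePt_psl (γ : PSL3) {q : GolayPt} (hq : IsPlanePt q) : IsPlanePt (pslHom γ q) := by
  by_contra h
  have h1 : pslHom γ (pslHom γ q) = pslHom γ q := by
    obtain ⟨g, rfl⟩ := QuotientGroup.mk_surjective γ
    exact slHom_apply_of_not g _ h
  have h2 := (pslHom γ).injective h1
  rw [h2] at h
  exact h hq

/-- `x` acts on the 21 points as `γ` on the plane -/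
def Rl (x : Cfsg.Spor.He) (γ : PSL3) : Prop := ∀ q : GolayPt, IsPlanePt q → phi x (be q) = be (pslHom γ q)

theorem Rl.one : Rl 1 1 := fun q _ => by rw [map_one, map_one]; rfl

theorem Rl.mul {x y : Cfsg.Spor.He} {γ δ : PSL3} (h1 : Rl x γ) (h2 : Rl y δ) : Rl (x * y) (γ * δ) := by
  intro q hq
  rw [phi_mul_apply, h2 q hq, h1 _ (isPlanePt_psl δ hq), map_mul, Equiv.Perm.mul_apply]

theorem Rl.inv {x : Cfsg.Spor.He} {γ : PSL3} (h : Rl x γ) : Rl x⁻¹ γ⁻¹ := by
  intro q hq
  apply phi_inv_apply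
  rw [h _ (isPlanePt_psl _ hq), ← Equiv.Perm.mul_apply, ← map_mul, mul_inv_cancel, map_one]
  rfl

theorem Rl.unique {x : Cfsg.Spor.He} {γ δ : PSL3} (h1 : Rl x γ) (h2 : Rl x δ) : γ = δ := by
  apply pslHom_injective
  apply Equiv.ext
  intro q
  by_cases hq : IsPlanePt q
  · have h3 := (h1 q hq).symm.trans (h2 q hq)
    exact bn_inj (isPlanePt_psl γ hq) (isPlanePt_psl δ hq) (congrArg Fin.val h3)
  · obtain ⟨g, rfl⟩ := QuotientGroup.mk_surjective γ
    obtain ⟨g', rfl⟩ := QuotientGroup.mk_surjective δ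
    exact (slHom_apply_of_not g _ hq).trans (slHom_apply_of_not g' _ hq).symm

theorem rl_of_chk {w : List Gen} {M : Matrix (Fin 3) (Fin 3) F4} (h : chkM w M) (hM : M.det = 1) :
    Rl (wd w) (QuotientGroup.mk (⟨M, hM⟩ : SL3)) := by
  intro q hq
  apply Fin.ext
  rw [← act_eq]
  have h1 : pslHom (QuotientGroup.mk (⟨M, hM⟩ : SL3)) q = ptOf (mv M (rep q)) := by
    rw [← mulVec_eq]
    exact slHom_apply ⟨M, hM⟩ q hq
  rw [h1]
  exact Nat.eq_of_beq_eq_true (h q hq)

theorem exists_rl {x : Cfsg.Spor.He} (hx : x ∈ L) : ∃ γ : PSL3, Rl x γ := by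
  induction hx using closure_induction with
  | mem x hx =>
    obtain ⟨m, hm, rfl⟩ := hx
    rcases hm with rfl | rfl | rfl | rfl | rfl
    · exact ⟨_, wd_one .c ▸ rl_of_chk chkC det_mC⟩
    · exact ⟨_, wd_one .d ▸ rl_of_chk chkD' det_mD⟩
    · exact ⟨_, wd_one .e ▸ rl_of_chk chkE det_mE⟩
    · exact ⟨_, wd_one .f ▸ rl_of_chk chkF det_mF⟩
    · exact ⟨_, wd_one .g ▸ rl_of_chk chkG det_mG⟩
  | one => exact ⟨1, Rl.one⟩
  | mul x y _ _ hx hy =>
    obtain ⟨γ, h1⟩ := hx
    obtain ⟨δ, h2⟩ := hy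
    exact ⟨_, h1.mul h2⟩
  | inv x _ hx =>
    obtain ⟨γ, h1⟩ := hx
    exact ⟨_, h1.inv⟩

theorem exists_rl' (γ : PSL3) : ∃ x ∈ L, Rl x γ := by
  have h : γ ∈ closure {A : PSL3 | ∃ (i j : Fin 3) (_ : i ≠ j) (c : F4), A = Cfsg.Agent.ONType.Psl.t i j c} := by
    rw [Cfsg.Agent.ONType.PslCard.closure_t]; trivial
  induction h using closure_induction with
  | mem γ h =>
    obtain ⟨i, j, hij, c, rfl⟩ := h
    exact ⟨_, wd_mem_L (ovr_tw i j c), rl_of_chk (chkT i j hij c) (Cfsg.Agent.ONType.Psl.det_tm i j c)⟩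
  | one => exact ⟨1, L.one_mem, Rl.one⟩
  | mul γ δ _ _ h1 h2 =>
    obtain ⟨x, hx, h1⟩ := h1
    obtain ⟨y, hy, h2⟩ := h2
    exact ⟨_, L.mul_mem hx hy, h1.mul h2⟩
  | inv γ _ h1 =>
    obtain ⟨x, hx, h1⟩ := h1
    exact ⟨_, L.inv_mem hx, h1.inv⟩

/-- the homomorphism of `L` onto `PSL(3,4)` -/
noncomputable def Th : ↥L →* PSL3 where
  toFun x := (exists_rl x.2).choose
  map_one' := Rl.unique (exists_rl L.one_mem).choose_spec Rl.one
  map_mul' x y := Rl.unique (exists_rl (L.mul_mem x.2 y.2)).choose_spec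
    ((exists_rl x.2).choose_spec.mul (exists_rl y.2).choose_spec)

theorem Th_spec (x : ↥L) : Rl x (Th x) := (exists_rl x.2).choose_spec

theorem Th_surjective : Function.Surjective Th := by
  intro γ
  obtain ⟨x, hx, h⟩ := exists_rl' γ
  exact ⟨⟨x, hx⟩, (Th_spec ⟨x, hx⟩).unique h⟩

theorem mem_V_of_fix {x : Cfsg.Spor.He} (hx : x ∈ L) (h : Rl x 1) : x ∈ V := by
  have h1 : Pr lvK x := mem_of_chk chkK (by
    intro m hm
    rw [List.mem_singleton] at hm
    rw [hm]
    exact L_comm_a hx) (by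
    intro f hf
    obtain ⟨q, hq, rfl⟩ := om_eq f hf
    refine ⟨bn_lt q, ?_⟩
    have h2 := h q hq
    rw [map_one] at h2
    exact h2)
  refine mem_of_pr (fun l hl w hw => ?_) h1
  have h2 : w = [] ∨ w = [.a] ∨ w = vW ++ [.a] ∨ w = vW := by
    simp only [lvK, List.mem_cons, List.not_mem_nil, or_false] at hl
    rcases hl with rfl | rfl | rfl | rfl
    · simpa [vW] using hw
    · exact Or.inl (by simpa using hw)
    · exact Or.inl (by simpa using hw)
    · exact Or.inl (by simpa using hw)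
  rcases h2 with rfl | rfl | rfl | rfl
  · rw [wd_nil]; exact V.one_mem
  · rw [wd_one]; exact a_mem_V
  · rw [wd_append, wd_one]; exact va_mem_V
  · exact v_mem_V

theorem ker_Th : Th.ker = V.subgroupOf L := by
  ext x
  rw [MonoidHom.mem_ker, mem_subgroupOf]
  constructor
  · intro h
    have h1 := Th_spec x
    rw [h] at h1
    exact mem_V_of_fix x.2 h1
  · intro h
    have hc : ∀ l : ↥L, Th l * Th x = Th x * Th l := by
      intro l
      rw [← map_mul, ← map_mul]
      congr 1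
      exact Subtype.ext (mem_V.mp h l l.2)
    have hz : Th x ∈ center PSL3 := by
      rw [mem_center_iff]
      intro γ
      obtain ⟨l, rfl⟩ := Th_surjective γ
      exact hc l
    have hs : IsSimpleGroup PSL3 := Cfsg.Agent.S0249.result 3 le_rfl
    rcases hs.eq_bot_or_eq_top_of_normal (center PSL3) inferInstance with h1 | h1
    · rw [h1, mem_bot] at hz
      exact hz
    · exfalso
      have h2 : commutator ↥L ≤ Th.ker := by
        rw [commutator_def, commutator_le]
        intro a _ b _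
        rw [MonoidHom.mem_ker, map_commutatorElement, commutatorElement_eq_one_iff_mul_comm]
        have h3 : Th a ∈ center PSL3 := by rw [h1]; trivial
        exact (mem_center_iff.mp h3 (Th b)).symm
      have h3 : commutator ↥L = ⊤ := by
        have h4 : (commutator ↥L).map L.subtype = L := by
          rw [commutator_def, map_commutator, ← MonoidHom.range_eq_map, range_subtype, perf]
        rw [eq_top_iff]
        intro y _
        have h5 : (y : Cfsg.Spor.He) ∈ (commutator ↥L).map L.subtype := by rw [h4]; exact y.2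
        obtain ⟨z, hz, hzy⟩ := h5
        rwa [← Subtype.ext hzy]
      obtain ⟨γ, hγ⟩ := exists_ne (1 : PSL3)
      obtain ⟨l, rfl⟩ := Th_surjective γ
      apply hγ
      have h6 : l ∈ commutator ↥L := by rw [h3]; trivial
      exact MonoidHom.mem_ker.mp (h2 h6)

theorem center_L : center ↥L = V.subgroupOf L := by
  ext x
  rw [mem_center_iff, mem_subgroupOf, mem_V]
  constructor
  · intro h l hl
    exact congrArg Subtype.val (h ⟨l, hl⟩)
  · intro h l
    exact Subtype.ext (h l l.2)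

/-- **`L` modulo its centre is `PSL(3,4)`.** -/
noncomputable def quotEquiv : ↥L ⧸ center ↥L ≃* PSL3 :=
  (QuotientGroup.quotientMulEquivOfEq (center_L.trans ker_Th.symm)).trans
    (QuotientGroup.quotientKerEquivOfSurjective Th Th_surjective)

end Cfsg.Agent.KFacts.He.TwoAPlane
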