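import Mathlib
import Cfsg.Prelude.Def_CaseTheorems
import Cfsg.Agent.KFacts.He.TwoAPlane

/-!
# The involutions of type 2A of the Held group

`two_a`: the centralizer of `a` has the quasisimple normal subgroup `L` of type `2^2.PSL(3,4)` with
`C(L) = Z(L)`.  `normal_cases`: the normal subgroups of `L`.  `aut_eq`: an automorphism of the Held group
trivial on `L` is the conjugation by an element of `Z(L)`.
-/

set_option autoImplicit false

namespace Cfsg.Agent.KFacts.He.TwoA

open Subgroup Cfsg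
open Cfsg.Spor Cfsg.Spor.He Cfsg.Agent.SporadicB.HePerm Cfsg.Agent.FixBN.HeStab
open Cfsg.Agent.KFacts.He.Lv Cfsg.Agent.KFacts.He.TwoAData Cfsg.Agent.KFacts.He.TwoAChk
open Cfsg.Agent.KFacts.He.TwoACent Cfsg.Agent.KFacts.He.TwoAPlane
open Cfsg.Agent.ONType.Psl (PSL3)
open scoped commutatorElement

theorem simple_PSL3 : IsSimpleGroup PSL3 := Cfsg.Agent.S0249.result 3 le_rfl

/-- The normal subgroups of `L`. -/
theorem normal_cases {N : Subgroup Cfsg.Spor.He} (hN : N ≤ L)
    (hn : ∀ l ∈ L, ∀ n ∈ N, l * n * l⁻¹ ∈ N) : N ≤ V ∨ N = L := by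
  have hs := simple_PSL3
  have hnor : (N.subgroupOf L).Normal := ⟨fun n hn' l => hn l l.2 n hn'⟩
  have hnor' : ((N.subgroupOf L).map Th).Normal := hnor.map Th Th_surjective
  rcases hs.eq_bot_or_eq_top_of_normal _ hnor' with h | h
  · left
    intro n hnn
    have h1 : (⟨n, hN hnn⟩ : ↥L) ∈ Th.ker := by
      rw [MonoidHom.mem_ker]
      have h2 : Th ⟨n, hN hnn⟩ ∈ (N.subgroupOf L).map Th := ⟨_, hnn, rfl⟩
      rw [h, mem_bot] at h2
      exact h2
    rw [ker_Th] at h1
    exact h1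
  · right
    apply le_antisymm hN
    rw [← perf, commutator_le]
    have key : ∀ x ∈ L, ∃ n ∈ N, ∃ z ∈ V, x = n * z := by
      intro x hx
      have h1 : Th ⟨x, hx⟩ ∈ (N.subgroupOf L).map Th := by rw [h]; trivial
      obtain ⟨n, hn', hnx⟩ := h1
      have h2 : n⁻¹ * ⟨x, hx⟩ ∈ Th.ker := by
        rw [MonoidHom.mem_ker, map_mul, map_inv, hnx, inv_mul_cancel]
      rw [ker_Th] at h2
      exact ⟨n, hn', _, h2, by
        show x = (n : Cfsg.Spor.He) * ((n : Cfsg.Spor.He)⁻¹ * x)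
        rw [mul_inv_cancel_left]⟩
    intro x hx y hy
    obtain ⟨n, hn1, z, hz, rfl⟩ := key x hx
    obtain ⟨m, hm1, w, hw, rfl⟩ := key y hy
    have c1 := mem_V.mp hz
    have c2 := mem_V.mp hw
    have e : ⁅n * z, m * w⁆ = ⁅n, m⁆ := by
      have a1 : n * z = z * n := c1 n (hN hn1)
      have a2 : m * w = w * m := c2 m (hN hm1)
      have a3 : m * z = z * m := c1 m (hN hm1)
      have a4 : n * w = w * n := c2 n (hN hn1)
      have a5 : z * w = w * z := c2 z (V_le_L hz)
      rw [commutatorElement_def, commutatorElement_def]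
      calc n * z * (m * w) * (n * z)⁻¹ * (m * w)⁻¹
          = n * (z * m) * w * z⁻¹ * n⁻¹ * w⁻¹ * m⁻¹ := by group
        _ = n * (m * z) * w * z⁻¹ * n⁻¹ * w⁻¹ * m⁻¹ := by rw [a3]
        _ = n * m * (z * w) * z⁻¹ * n⁻¹ * w⁻¹ * m⁻¹ := by group
        _ = n * m * (w * z) * z⁻¹ * n⁻¹ * w⁻¹ * m⁻¹ := by rw [a5]
        _ = n * m * (w * n⁻¹) * w⁻¹ * m⁻¹ := by group
        _ = n * m * (n⁻¹ * w) * w⁻¹ * m⁻¹ := by
            rw [show w * n⁻¹ = n⁻¹ * w from ((show Commute n w from a4).inv_left).symm]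
        _ = n * m * n⁻¹ * m⁻¹ := by group
    rw [e]
    have h4 := hn n (hN hn1) m hm1
    exact N.mul_mem h4 (N.inv_mem hm1)

theorem isPerfect_L : Group.IsPerfect ↥L := by
  have h4 : (commutator ↥L).map L.subtype = L := by
    rw [commutator_def, map_commutator, ← MonoidHom.range_eq_map, range_subtype, perf]
  rw [Group.isPerfect_def, eq_top_iff]
  intro y _
  have h5 : (y : Cfsg.Spor.He) ∈ (commutator ↥L).map L.subtype := by rw [h4]; exact y.2
  obtain ⟨z, hz, hzy⟩ := h5
  rwa [← Subtype.ext hzy]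

theorem isQuasisimple_L : IsQuasisimple ↥L := by
  refine ⟨isPerfect_L, ?_⟩
  have hs := simple_PSL3
  have : Nontrivial (↥L ⧸ center ↥L) := quotEquiv.toEquiv.nontrivial
  exact IsSimpleGroup.isSimpleGroup_of_surjective quotEquiv.symm.toMonoidHom quotEquiv.symm.surjective

/-- **The centralizer of the involution `a`**, in the form for the unbalanced group theorem. -/
theorem two_a : L ≤ centralizer {gn .a} ∧ (L.subgroupOf (centralizer {gn .a})).Normal ∧
    IsQuasisimple ↥L ∧ gn .a ∈ L ∧ (∀ y, (∀ m ∈ L, y * m = m * y) → y ∈ L ∧ y * y = 1) ∧ gn .d ∈ L := by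
  refine ⟨fun x hx => ?_, ⟨fun n hn c => ?_⟩, isQuasisimple_L, a_mem_L, fun y hy => ?_, gn_mem_L (by simp)⟩
  · rw [mem_centralizer_singleton_iff]
    exact L_comm_a hx
  · have hc := mem_centralizer_singleton_iff.mp c.2
    exact norm hc hn
  · have hyV : y ∈ V := mem_V.mpr fun m hm => (hy m hm).symm
    refine ⟨V_le_L hyV, ?_⟩
    rcases V_eq hyV with rfl | rfl | rfl | rfl
    · rw [one_mul]
    · exact gn_mul_self _
    · exact v_mul_self
    · have h1 : v * gn .a = gn .a * v := (L_comm_a v_mem_L)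
      calc v * gn .a * (v * gn .a) = v * gn .a * (gn .a * v) := by rw [← h1]
        _ = v * (gn .a * gn .a) * v := by group
        _ = 1 := by rw [gn_mul_self, mul_one, v_mul_self]

end Cfsg.Agent.KFacts.He.TwoA
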