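import Mathlib
import Cfsg.Agent.KFacts.He.TwoACent

/-!
# Automorphisms of the Held group trivial on the component `L` of `C(a)`

`aut_eq`: an endomorphism of the Held group trivial on `L = ⟨c, d, e, f, g⟩` is the conjugation by an
element of `Z(L)`.
-/

set_option autoImplicit false

namespace Cfsg.Agent.KFacts.He.TwoAAut

open Subgroup Cfsg
open Cfsg.Spor Cfsg.Spor.He Cfsg.Agent.SporadicB.HePerm Cfsg.Agent.FixBN.HeStab
open Cfsg.Agent.KFacts.He.Lv Cfsg.Agent.KFacts.He.TwoAData Cfsg.Agent.KFacts.He.TwoAChk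
open Cfsg.Agent.KFacts.He.TwoACent

/-- endomorphisms which agree on the generators are equal -/
theorem ext_gn {α β : Cfsg.Spor.He →* Cfsg.Spor.He} (h : ∀ m : Gen, α (gn m) = β (gn m)) (x : Cfsg.Spor.He) :
    α x = β x := DFunLike.congr_fun (PresentedGroup.ext h : α = β) x

/-- the centralizer of `a, d, e, f, g` -/
theorem cent_D {y : Cfsg.Spor.He} (h : ∀ m ∈ [Gen.a, .d, .e, .f, .g], y * gn m = gn m * y) :
    ∃ w ∈ [[], [.a], vW, vW ++ [.a], [.b, .a, .b], [.b, .a, .b] ++ [.a], vW ++ [.b, .a, .b],
      vW ++ [.b, .a, .b] ++ [Gen.a]], y = wd w := by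
  have h1 : Pr lvD y := mem_of_chk chkD h (by intro f hf; exact absurd hf List.not_mem_nil)
  obtain ⟨x1, hx1, x2', ⟨x2, hx2, x3', ⟨x3, hx3, x4', ⟨x4, hx4, x5, hx5, rfl⟩, rfl⟩, rfl⟩, rfl⟩ := h1
  rw [show x5 = 1 from hx5]
  have e3 : x3 = [] := by simpa [lvD] using hx3
  have e4 : x4 = [] := by simpa [lvD] using hx4
  rw [e3, e4, wd_nil, mul_one, mul_one, mul_one, ← wd_append]
  have e1 : x1 = vW ++ [.b, .a, .b] ∨ x1 = [] ∨ x1 = vW ∨ x1 = [.b, .a, .b] := by
    simpa [lvD, vW] using hx1
  have e2 : x2 = [] ∨ x2 = [.a] := by simpa [lvD] using hx2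
  refine ⟨x1 ++ x2, ?_, rfl⟩
  rcases e1 with rfl | rfl | rfl | rfl <;> rcases e2 with rfl | rfl <;>
    simp only [List.append_nil, List.nil_append, List.mem_cons, true_or, or_true]

/-- an endomorphism trivial on `L` and on `s` -/
theorem core {α : Cfsg.Spor.He →* Cfsg.Spor.He} (hL : ∀ l ∈ L, α l = l) (hs : α s = s) :
    (∀ x, α x = x) ∨ (∀ x, α x = gn .a * x * (gn .a)⁻¹) := by
  have hbb := gn_mul_self .b
  have hββ : α (gn .b) * α (gn .b) = 1 := by rw [← map_mul, hbb, map_one]
  have hsw : s = gn .b * gn .a * gn .b := by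
    show wd [.b, .a, .b] = _
    rw [wd_cons, wd_cons, wd_one, mul_assoc]
  have hα : α (gn .b) * gn .a * α (gn .b) = gn .b * gn .a * gn .b := by
    rw [hsw, map_mul, map_mul, hL _ a_mem_L] at hs
    exact hs
  obtain ⟨y, hy⟩ : ∃ y, y = gn .b * α (gn .b) := ⟨_, rfl⟩
  have hαy : α (gn .b) = gn .b * y := by rw [hy, ← mul_assoc, hbb, one_mul]
  have hcomm : ∀ m ∈ [Gen.a, .d, .e, .f, .g], y * gn m = gn m * y := by
    have key : ∀ m : Gen, gn m ∈ L → gn .b * gn m = gn m * gn .b → y * gn m = gn m * y := by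
      intro m hm hbm
      have h2 : α (gn .b) * gn m = gn m * α (gn .b) := by
        have h3 := congrArg α hbm
        rw [map_mul, map_mul, hL _ hm] at h3
        exact h3
      rw [hy, mul_assoc, h2, ← mul_assoc, hbm, mul_assoc]
    have kb : ∀ m : Gen, chkB [.b, m] [m, .b] = true → gn .b * gn m = gn m * gn .b := by
      intro m hm
      have h := eq_of_chkB hm
      rwa [wd_cons, wd_one, wd_cons, wd_one] at h
    intro m hm
    simp only [List.mem_cons, List.not_mem_nil, or_false] at hm
    rcases hm with rfl | rfl | rfl | rfl | rfl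
    · have h3 : y * gn .a * α (gn .b) = gn .a * gn .b := by
        calc y * gn .a * α (gn .b) = gn .b * (α (gn .b) * gn .a * α (gn .b)) := by rw [hy]; group
          _ = gn .b * gn .b * (gn .a * gn .b) := by rw [hα]; group
          _ = gn .a * gn .b := by rw [hbb, one_mul]
      calc y * gn .a = y * gn .a * α (gn .b) * α (gn .b) := by rw [mul_assoc _ _ (α (gn .b)), hββ, mul_one]
        _ = gn .a * y := by rw [h3, hy, mul_assoc]
    · exact key .d (gn_mem_L (by simp)) (kb .d (by decide +kernel))
    · exact key .e (gn_mem_L (by simp)) (kb .e (by decide +kernel))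
    · exact key .f (gn_mem_L (by simp)) (kb .f (by decide +kernel))
    · exact key .g (gn_mem_L (by simp)) (kb .g (by decide +kernel))
  obtain ⟨w, hw, hyw⟩ := cent_D hcomm
  have hsq : wd ([.b] ++ w ++ ([.b] ++ w)) = wd [] := by
    rw [wd_append, wd_append, wd_one, ← hyw, ← hαy, hββ, wd_nil]
  have hbad : ∀ {w : List Gen}, Nat.beq (act ([.b] ++ w ++ ([.b] ++ w)) 8) 8 = false →
      wd ([.b] ++ w ++ ([.b] ++ w)) ≠ wd [] := fun {w} h => ne_of_act 8 h
  simp only [List.mem_cons, List.not_mem_nil, or_false] at hw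
  rcases hw with rfl | rfl | rfl | rfl | rfl | rfl | rfl | rfl
  · left
    have hb : α (gn .b) = gn .b := by rw [hαy, hyw, wd_nil, mul_one]
    refine ext_gn (β := MonoidHom.id _) fun m => ?_
    show α (gn m) = gn m
    cases m
    · exact hL _ a_mem_L
    · exact hb
    all_goals exact hL _ (gn_mem_L (by simp))
  · exact absurd hsq (hbad (by decide +kernel))
  · exact absurd hsq (hbad (by decide +kernel))
  · exact absurd hsq (hbad (by decide +kernel))
  · exact absurd hsq (hbad (by decide +kernel))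
  · right
    have hb : α (gn .b) = gn .a * gn .b * (gn .a)⁻¹ := by
      rw [hαy, hyw, gn_inv, ← wd_one, ← wd_append, ← wd_one, ← wd_append, ← wd_append]
      exact eq_of_chkB (by decide +kernel)
    refine ext_gn (β := (MulAut.conj (gn .a)).toMonoidHom) fun m => ?_
    show α (gn m) = gn .a * gn m * (gn .a)⁻¹
    have key : ∀ m : Gen, gn m ∈ L → α (gn m) = gn .a * gn m * (gn .a)⁻¹ := by
      intro m hm
      rw [hL _ hm, ← L_comm_a hm, mul_inv_cancel_right]
    cases m
    · exact key _ a_mem_L
    · exact hb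
    all_goals exact key _ (gn_mem_L (by simp))
  · exact absurd hsq (hbad (by decide +kernel))
  · exact absurd hsq (hbad (by decide +kernel))

/-- **An endomorphism of the Held group trivial on `L` is the conjugation by an element of `V = Z(L)`.** -/
theorem end_eq {α : Cfsg.Spor.He →* Cfsg.Spor.He} (hL : ∀ l ∈ L, α l = l) :
    ∃ z ∈ V, ∀ x, α x = z * x * z⁻¹ := by
  have hV : s⁻¹ * α s ∈ V := by
    rw [mem_V]
    intro l hl
    have h1 : s * l * s⁻¹ ∈ L := by rw [s_inv]; exact s_conj_mem hl
    have h2 := hL _ h1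
    rw [map_mul, map_mul, map_inv, hL _ hl] at h2
    have h3 : α s * l = s * l * s⁻¹ * α s := by
      rw [← h2]; group
    calc l * (s⁻¹ * α s) = s⁻¹ * (s * l * s⁻¹ * α s) := by group
      _ = s⁻¹ * (α s * l) := by rw [h3]
      _ = s⁻¹ * α s * l := by group
  have hss : α s * α s = 1 := by rw [← map_mul, s_mul_self, map_one]
  have hsv : s * v * s = gn .a * v := by
    have h1 := s_conj_v
    rw [s_inv] at h1
    rw [← h1]; group
  have hvs : v * s * v = s * gn .a := by
    have h1 : s * v * s * v = gn .a := by rw [hsv, mul_assoc, v_mul_self, mul_one]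
    calc v * s * v = 1 * (v * s * v) := by group
      _ = s * (s * v * s * v) := by rw [← s_mul_self]; group
      _ = s * gn .a := by rw [h1]
  rcases V_eq hV with h | h | h | h
  · have h1 : α s = s := by rw [← mul_inv_cancel_left s (α s), h, mul_one]
    rcases core hL h1 with h2 | h2
    · exact ⟨1, V.one_mem, fun x => by rw [h2, one_mul, inv_one, mul_one]⟩
    · exact ⟨gn .a, a_mem_V, h2⟩
  · -- `α s = s a = v s v`
    have h1 : α s = s * gn .a := by rw [← h, mul_inv_cancel_left]
    have vi : v⁻¹ = v := inv_eq_of_mul_eq_one_left v_mul_self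
    have hβL : ∀ l ∈ L, ((MulAut.conj v).toMonoidHom.comp α) l = l := by
      intro l hl
      show v * α l * v⁻¹ = l
      rw [hL _ hl, ← L_comm_v hl, mul_inv_cancel_right]
    have hβs : ((MulAut.conj v).toMonoidHom.comp α) s = s := by
      show v * α s * v⁻¹ = s
      rw [h1, ← hvs, vi]
      calc v * (v * s * v) * v = (v * v) * s * (v * v) := by group
        _ = s := by rw [v_mul_self, one_mul, mul_one]
    have key : ∀ x, α x = v * ((MulAut.conj v).toMonoidHom.comp α) x * v⁻¹ := by
      intro x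
      show α x = v * (v * α x * v⁻¹) * v⁻¹
      rw [vi]
      calc α x = 1 * α x * 1 := by group
        _ = (v * v) * α x * (v * v) := by rw [v_mul_self]
        _ = v * (v * α x * v) * v := by group
    rcases core hβL hβs with h2 | h2
    · exact ⟨v, v_mem_V, fun x => by rw [key x, h2]⟩
    · refine ⟨v * gn .a, va_mem_V, fun x => ?_⟩
      rw [key x, h2, mul_inv_rev]
      group
  · exfalso
    have h1 : α s = s * v := by rw [← h, mul_inv_cancel_left]
    rw [h1] at hss
    have h2 : s * v * s * v = 1 := by rw [← hss]; group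
    rw [hsv, mul_assoc, v_mul_self, mul_one] at h2
    exact a_ne_one h2
  · exfalso
    have h1 : α s = s * (v * gn .a) := by rw [← h, mul_inv_cancel_left]
    rw [h1] at hss
    have h2 : s * v * s * v = 1 := by
      have c1 : gn .a * s = s * gn .a := s_comm_a.symm
      have c2 : gn .a * v = v * gn .a := (L_comm_a v_mem_L).symm
      calc s * v * s * v = s * v * s * v * 1 := by group
        _ = s * v * s * v * (gn .a * gn .a) := by rw [gn_mul_self]
        _ = s * v * s * (v * gn .a) * gn .a := by group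
        _ = s * v * s * (gn .a * v) * gn .a := by rw [c2]
        _ = s * v * (s * gn .a) * v * gn .a := by group
        _ = s * v * (gn .a * s) * v * gn .a := by rw [c1]
        _ = s * (v * gn .a) * (s * (v * gn .a)) := by group
        _ = 1 := hss
    rw [hsv, mul_assoc, v_mul_self, mul_one] at h2
    exact a_ne_one h2

/-- **An automorphism of the Held group trivial on `L` is the conjugation by an element of `Z(L)`.** -/
theorem aut_eq {α : Cfsg.Spor.He ≃* Cfsg.Spor.He} (hL : ∀ l ∈ L, α l = l) :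
    ∃ z ∈ V, ∀ x, α x = z * x * z⁻¹ := end_eq (α := α.toMonoidHom) hL

end Cfsg.Agent.KFacts.He.TwoAAut
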