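import Cfsg.Agent.KFacts.He.Cent
import Cfsg.Agent.OddHalf.UT5.KBasic
import Cfsg.Agent.Schreier.He

/-!
# The D8 sheet `Sheet.Basic` of the Held group (helper579)

* `basic`: for `Spor.He`, `z`, `P = C(z)`;
* `hyp_of_iso`, `basic_of_iso`: for every group with `IsoHe`.
-/

set_option autoImplicit false

namespace Cfsg.Agent.KFacts.He.Basic

open Cfsg.Agent.SporadicRecognition.HeldModel Cfsg.Agent.OddHalf.D8 Cfsg.Agent.KFacts.He.Hyp
  Cfsg.Agent.KFacts.He.Cent Cfsg.Agent.KFacts.He.Bound

/-- **The D8 sheet of the Held group.** -/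
theorem basic : Sheet.Basic z iota.range :=
  OddHalf.UT5.KBasic.basic hyp Schreier.He.sch

/-- the same with `P = C(z)` -/
theorem basic' : Sheet.Basic z (Subgroup.centralizer ({z} : Set Cfsg.Spor.He)) := by
  rw [← hyp.range]; exact basic

/-- `Hyp` is transported by isomorphisms. -/
theorem hyp_map {K L : Type*} [Group K] [Group L] {z : K} {ι : CC →* K} (h : SporadicRecognition.HeldModel.Hyp z ι)
    (e : K ≃* L) : SporadicRecognition.HeldModel.Hyp (e z) (e.toMonoidHom.comp ι) where
  inj := e.injective.comp h.inj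
  map_zz := by show e (ι zC) = e z; rw [h.map_zz]
  range := by
    ext g
    constructor
    · rintro ⟨u, rfl⟩
      rw [Subgroup.mem_centralizer_singleton_iff]
      have h1 : ι u * z = z * ι u := by
        rw [← Subgroup.mem_centralizer_singleton_iff, ← h.range]; exact ⟨u, rfl⟩
      show e (ι u) * e z = e z * e (ι u)
      rw [← map_mul, h1, map_mul]
    · intro hg
      rw [Subgroup.mem_centralizer_singleton_iff] at hg
      have h1 : e.symm g ∈ ι.range := by
        rw [h.range, Subgroup.mem_centralizer_singleton_iff]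
        apply e.injective
        rw [map_mul, map_mul, e.apply_symm_apply]
        exact hg
      obtain ⟨u, hu⟩ := h1
      exact ⟨u, by show e (ι u) = g; rw [hu, e.apply_symm_apply]⟩

theorem hyp_of_iso {K : Type*} [Group K] (h : Cfsg.Spor.IsoHe K) :
    ∃ (z : K) (ι : CC →* K), SporadicRecognition.HeldModel.Hyp z ι := by
  obtain ⟨e⟩ := h
  exact ⟨e.symm Bound.z, _, hyp_map hyp e.symm⟩

/-- **The D8 sheet for every group isomorphic to the Held group.** -/
theorem basic_of_iso {K : Type*} [Group K] (h : Cfsg.Spor.IsoHe K) :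
    ∃ (z : K) (ι : CC →* K), SporadicRecognition.HeldModel.Hyp z ι ∧ Sheet.Basic z ι.range := by
  obtain ⟨z, ι, hh⟩ := hyp_of_iso h
  have hs := Schreier.He.sch_of_iso h
  obtain ⟨e⟩ := h
  have : Finite K := Finite.of_equiv _ e.symm.toEquiv
  have : Nontrivial K := e.toEquiv.nontrivial
  have : IsSimpleGroup K := IsSimpleGroup.isSimpleGroup_of_surjective e.symm.toMonoidHom e.symm.surjective
  exact ⟨z, ι, hh, OddHalf.UT5.KBasic.basic hh hs⟩

end Cfsg.Agent.KFacts.He.Basic
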