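import Cfsg.Agent.KFacts.He.Words
import Cfsg.Agent.KFacts.He.BoundData

/-!
# Facts about the presented Held group: the order of the centraliser of `z` is at most 21504 (helper579)

`z` fixes 42 points; `42 * 16 * 2 * 16 = 21504`.
-/

set_option autoImplicit false

namespace Cfsg.Agent.KFacts.He.Bound

open Cfsg.Spor Cfsg.Spor.He Cfsg.Agent.SporadicB.HePerm Cfsg.Agent.KFacts.He.BoundData
  Cfsg.Agent.KFacts.He.Words Cfsg.Agent.SporadicRecognition.CosetCert Cfsg.Agent.Held.Letters

/-- upper bound for one step of a stabiliser chain -/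
theorem step_le {X : Type*} [Finite X] (H : Subgroup (Equiv.Perm X)) (x : X) (O : Finset X)
    (hO : ∀ h ∈ H, h x ∈ O) :
    Nat.card H ≤ O.card * Nat.card (H ⊓ MulAction.stabilizer (Equiv.Perm X) x : Subgroup _) := by
  classical
  have h1 := Subgroup.card_mul_index (MulAction.stabilizer H x)
  have h2 : (MulAction.stabilizer H x).index = (MulAction.orbit H x).ncard :=
    MulAction.index_stabilizer H x
  have h3 : (MulAction.orbit H x).ncard ≤ O.card := by
    rw [← Set.ncard_coe_finset]
    refine Set.ncard_le_ncard ?_ (Set.toFinite _)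
    rintro _ ⟨h, rfl⟩
    exact hO h h.2
  have h4 : Nat.card (H ⊓ MulAction.stabilizer (Equiv.Perm X) x : Subgroup (Equiv.Perm X)) =
      Nat.card (MulAction.stabilizer H x) := by
    have e : (H ⊓ MulAction.stabilizer (Equiv.Perm X) x : Subgroup (Equiv.Perm X)) =
        (MulAction.stabilizer H x).map H.subtype := by
      ext g
      constructor
      · rintro ⟨hg, hx⟩
        exact ⟨⟨g, hg⟩, hx, rfl⟩
      · rintro ⟨g, hx, rfl⟩
        exact ⟨g.2, hx⟩
    rw [e]
    exact Subgroup.card_map_of_injective H.subtype_injective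
  rw [← h1, h2, h4, mul_comm]
  exact Nat.mul_le_mul_right _ h3

/-- the stabiliser of 0 -/
noncomputable def K0 : Subgroup (Equiv.Perm (Fin 2058)) := phi.range ⊓ fixer 0
/-- the stabiliser of 0 and 1 -/
noncomputable def K1 : Subgroup (Equiv.Perm (Fin 2058)) := K0 ⊓ fixer 1
/-- generated by the words for the stabiliser of 0 and 1 -/
def KL : Subgroup (Equiv.Perm (Fin 2058)) := Subgroup.closure {p | ∃ w ∈ wordsL, p = (w.map pm).prod}

theorem e0 : Fin.ofNat 2058 (look Data.gOrd 0) = (0 : Fin 2058) := by rw [ordG0]; rfl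
theorem e1 : Fin.ofNat 2058 (look Data.kOrd 1) = (1 : Fin 2058) := by rw [ordK1]; rfl
theorem e2 : Fin.ofNat 2058 (look Data.lOrd 0) = (32 : Fin 2058) := by rw [ordL0]; rfl
theorem e3 : Fin.ofNat 2058 (look Data.mOrd 0) = (8 : Fin 2058) := by rw [ordM0]; rfl

theorem KL_le : KL ≤ K1 := by
  unfold KL
  rw [Subgroup.closure_le]
  rintro _ ⟨w, hw, rfl⟩
  have hL := fixL
  rw [List.all_eq_true] at hL
  have h := hL w hw
  rw [Bool.and_eq_true] at h
  exact ⟨⟨prod_mem_range w, mem_fixer.mpr (fix_of_act (by norm_num) (Nat.eq_of_beq_eq_true h.1))⟩,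
    mem_fixer.mpr (fix_of_act (by norm_num) (Nat.eq_of_beq_eq_true h.2))⟩

theorem mem_KL {w : List Gen} (hw : w ∈ wordsL) : (w.map pm).prod ∈ KL :=
  Subgroup.subset_closure ⟨w, hw, rfl⟩

theorem mem_KL_M {w : List Gen} (hw : w ∈ wordsM) : (w.map pm).prod ∈ KL := by
  have ha : ([Gen.a].map pm).prod ∈ KL := mem_KL (by simp [wordsL])
  have hd : ([Gen.d].map pm).prod ∈ KL := mem_KL (by simp [wordsL])
  have he : ([Gen.e].map pm).prod ∈ KL := mem_KL (by simp [wordsL])
  have hab : ([Gen.a, Gen.b, Gen.a, Gen.b].map pm).prod ∈ KL := mem_KL (by simp [wordsL])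
  simp only [wordsM, List.mem_cons, List.not_mem_nil, or_false] at hw
  rcases hw with rfl | rfl
  · exact ha
  · have := mul_mem hd (mul_mem he (mul_mem hd hab))
    rw [← List.prod_append, ← List.prod_append, ← List.prod_append, ← List.map_append, ← List.map_append,
      ← List.map_append] at this
    exact this

theorem card_KL : 1440 ≤ Nat.card KL := by
  have hM := fixM
  rw [List.all_eq_true] at hM
  set H3 := KL ⊓ fixer 32 with hH3
  have s2 : 360 * Nat.card H3 ≤ Nat.card KL := by
    refine le_trans (Nat.mul_le_mul_right _ (card_pts treeL).ge) ?_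
    apply chain_step KL H3 (32 : Fin 2058) _ _ inf_le_left
    · intro k hk; exact mem_fixer.mp hk.2
    · intro y hy
      have := reach_pts treeL KL (fun w hw => mem_KL hw) y hy
      rwa [e2] at this
  have s3 : 4 * Nat.card (⊥ : Subgroup (Equiv.Perm (Fin 2058))) ≤ Nat.card H3 := by
    refine le_trans (Nat.mul_le_mul_right _ (card_pts treeM).ge) ?_
    apply chain_step H3 ⊥ (8 : Fin 2058) _ _ bot_le
    · intro k hk
      rw [Subgroup.mem_bot] at hk
      rw [hk]; rfl
    · intro y hy
      have := reach_pts treeM H3 (fun w hw => by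
        have h := hM w hw
        rw [Bool.and_eq_true, Bool.and_eq_true] at h
        exact ⟨mem_KL_M hw, mem_fixer.mpr (fix_of_act (by norm_num) (Nat.eq_of_beq_eq_true h.2.2))⟩) y hy
      rwa [e3] at this
  have hb : Nat.card (⊥ : Subgroup (Equiv.Perm (Fin 2058))) = 1 := Subgroup.card_bot
  rw [hb] at s3
  omega

theorem card_range_le : Nat.card phi.range ≤ 4030387200 := by
  obtain ⟨hfin, hle⟩ := Cfsg.Agent.SporadicB.HeUpper.card_he_le
  exact (Nat.card_le_card_of_surjective phi.rangeRestrict phi.rangeRestrict_surjective).trans hle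

theorem step0 : 2058 * Nat.card K0 ≤ Nat.card phi.range := by
  refine le_trans (Nat.mul_le_mul_right _ (card_pts treeG).ge) ?_
  apply chain_step phi.range K0 (0 : Fin 2058) _ _ inf_le_left
  · intro k hk; exact mem_fixer.mp hk.2
  · intro y hy
    have := reach_pts treeG phi.range (fun w _ => prod_mem_range w) y hy
    rwa [e0] at this

theorem wordsK_mem {w : List Gen} (hw : w ∈ wordsK) : (w.map pm).prod ∈ K0 := by
  have hK := fixK
  rw [List.all_eq_true] at hK
  exact ⟨prod_mem_range w, mem_fixer.mpr (fix_of_act (by norm_num) (Nat.eq_of_beq_eq_true (hK w hw)))⟩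

theorem reachK (y : Fin 2058) (hy : y ∈ pts treeK1) : ∃ h ∈ K0, h 1 = y := by
  have := reach_pts treeK1 K0 (fun w hw => wordsK_mem hw) y hy
  rwa [e1] at this

theorem step1 : 1360 * Nat.card K1 ≤ Nat.card K0 := by
  refine le_trans (Nat.mul_le_mul_right _ (card_pts treeK1).ge) ?_
  apply chain_step K0 K1 (1 : Fin 2058) _ _ inf_le_left
  · intro k hk; exact mem_fixer.mp hk.2
  · exact reachK

theorem card_K1_ge : 1440 ≤ Nat.card K1 :=
  card_KL.trans (Subgroup.card_le_of_le KL_le)

theorem card_K0_le : Nat.card K0 ≤ 1958400 := by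
  have h0 := step0
  have h1 := card_range_le
  omega

theorem card_K1_le : Nat.card K1 ≤ 1440 := by
  have h0 := step1
  have h1 := card_K0_le
  omega

theorem KL_eq : KL = K1 := Subgroup.eq_of_le_of_card_ge KL_le (card_K1_le.trans card_KL)

/-- the orbit of 1 under `K0` has 1360 points -/
theorem orbit1 (h : Equiv.Perm (Fin 2058)) (hh : h ∈ K0) : h 1 ∈ pts treeK1 := by
  classical
  by_contra hn
  have h1 : (insert (h 1) (pts treeK1)).card * Nat.card K1 ≤ Nat.card K0 := by
    apply chain_step K0 K1 (1 : Fin 2058) _ _ inf_le_left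
    · intro k hk; exact mem_fixer.mp hk.2
    · intro y hy
      rcases Finset.mem_insert.mp hy with rfl | hy
      · exact ⟨h, hh, rfl⟩
      · exact reachK y hy
  rw [Finset.card_insert_of_notMem hn, card_pts treeK1] at h1
  have h2 := card_K0_le
  have h3 := card_K1_ge
  have h4 : (1360 + 1) * 1440 ≤ (1360 + 1) * Nat.card K1 := Nat.mul_le_mul_left _ h3
  omega

theorem treeN : treeCheck wordsL nOrd nPar nGen nPos 0 90 = true := by decide +kernel

theorem ordN0 : look nOrd 0 = 226 := by decide +kernel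

theorem closedN : (allBelow 90 fun k => wordsL.all fun w =>
    and (Nat.blt (look nPos (act w (look nOrd k))) 90)
      (Nat.beq (look nOrd (look nPos (act w (look nOrd k)))) (act w (look nOrd k)))) = true := by
  decide +kernel

theorem e4 : Fin.ofNat 2058 (look nOrd 0) = (226 : Fin 2058) := by rw [ordN0]; rfl

/-- the set of points of the orbit is closed -/
theorem mapsN {w : List Gen} (hw : w ∈ wordsL) {y : Fin 2058} (hy : y ∈ pts treeN) :
    (w.map pm).prod y ∈ pts treeN := by
  unfold pts at hy ⊢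
  rw [Finset.mem_image] at hy ⊢
  obtain ⟨k, -, rfl⟩ := hy
  have h1 := of_allBelow closedN k k.2
  rw [List.all_eq_true] at h1
  have h2 := h1 w hw
  rw [Bool.and_eq_true] at h2
  have h3 : look nPos (act w (look nOrd k)) < 90 := Nat.le_of_ble_eq_true h2.1
  have h4 := Nat.eq_of_beq_eq_true h2.2
  refine ⟨⟨_, h3⟩, Finset.mem_univ _, ?_⟩
  apply Fin.ext
  rw [prod_apply]
  show look nOrd (0 + look nPos (act w (look nOrd k))) = act w (look nOrd (0 + k))
  rw [Nat.zero_add, Nat.zero_add]
  exact h4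

theorem orbitN (h : Equiv.Perm (Fin 2058)) (hh : h ∈ K1) : ∀ y ∈ pts treeN, h y ∈ pts treeN := by
  rw [← KL_eq] at hh
  unfold KL at hh
  induction hh using Subgroup.closure_induction with
  | mem p hp =>
    obtain ⟨w, hw, rfl⟩ := hp
    intro y hy
    exact mapsN hw hy
  | one => intro y hy; exact hy
  | mul a b _ _ ha hb => intro y hy; exact ha _ (hb _ hy)
  | inv a _ ha =>
    have h1 : (pts treeN).image a = pts treeN := by
      apply Finset.eq_of_subset_of_card_le
      · intro y hy
        obtain ⟨x, hx, rfl⟩ := Finset.mem_image.mp hy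
        exact ha x hx
      · rw [Finset.card_image_of_injective _ a.injective]
    intro y hy
    rw [← h1] at hy
    obtain ⟨x, hx, rfl⟩ := Finset.mem_image.mp hy
    have h2 : a⁻¹ (a x) = x := by
      rw [← Equiv.Perm.mul_apply, inv_mul_cancel, Equiv.Perm.one_apply]
    rw [h2]
    exact hx

theorem card_K2_le : Nat.card (K1 ⊓ fixer 226 : Subgroup _) ≤ 16 := by
  have h1 : 90 * Nat.card (K1 ⊓ fixer 226 : Subgroup _) ≤ Nat.card K1 := by
    refine le_trans (Nat.mul_le_mul_right _ (card_pts treeN).ge) ?_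
    apply chain_step K1 _ (226 : Fin 2058) _ _ inf_le_left
    · intro k hk; exact mem_fixer.mp hk.2
    · intro y hy
      have := reach_pts treeN K1 (fun w hw => KL_le (mem_KL hw)) y hy
      rwa [e4] at this
  have h2 := card_K1_le
  omega

/-! ### The fixed points of `z` -/

/-- the central involution -/
def z : Cfsg.Spor.He := xr 0 4

theorem z_apply (i : Fin 2058) : ((phi z i : Fin 2058) : ℕ) = im [3] i := by
  have h := im_spec [3] i
  rw [ev_cons, ev_nil, mul_one] at h
  exact h

/-- membership in a list of numbers -/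
def memB (i : ℕ) : List ℕ → Bool := List.rec (motive := fun _ => Bool) false (fun x _ ih => or (Nat.beq i x) ih)

theorem memB_iff {i : ℕ} {l : List ℕ} : memB i l = true ↔ i ∈ l := by
  induction l with
  | nil => simp [memB]
  | cons x l ih =>
    show or (Nat.beq i x) (memB i l) = true ↔ _
    rw [Bool.or_eq_true, ih, List.mem_cons, Nat.beq_eq]

theorem fix_check : (allBelow 2058 fun i => or (Bool.not (Nat.beq (im [3] i) i)) (memB i F42)) = true := by
  decide +kernel

theorem fix_z {i : Fin 2058} (h : phi z i = i) : (i : ℕ) ∈ F42 := by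
  have h1 := of_allBelow fix_check i i.2
  have h2 : im [3] i = i := by rw [← z_apply, h]
  rw [h2, Nat.beq_refl, Bool.not_true, Bool.false_or] at h1
  exact memB_iff.mp h1

theorem F42_16 : (F42.all fun i => or (Bool.not (and (Nat.ble 1 (look Data.kPos i))
    (Nat.blt (look Data.kPos i) 1361))) (memB i F16)) = true := by decide +kernel

theorem F42_2 : (F42.all fun i => or (Bool.not (Nat.blt (look nPos i) 90)) (memB i [226, 292])) = true := by
  decide +kernel

theorem fix16 {i : Fin 2058} (h : phi z i = i) (hi : i ∈ pts treeK1) : (i : ℕ) ∈ F16 := by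
  have h1 := fix_z h
  unfold pts at hi
  rw [Finset.mem_image] at hi
  obtain ⟨k, -, hk⟩ := hi
  have h2 := tree_pos treeK1 k k.2
  have h3 : (i : ℕ) = look Data.kOrd (1 + k) := by rw [← hk]
  have h4 := F42_16
  rw [List.all_eq_true] at h4
  have h5 := h4 i h1
  rw [h3, h2] at h5
  have h6 : and (Nat.ble 1 (1 + (k : ℕ))) (Nat.blt (1 + (k : ℕ)) 1361) = true := by
    rw [Bool.and_eq_true]
    have hk2 := k.2
    exact ⟨Nat.ble_eq.mpr (by omega), by rw [Nat.blt_eq]; omega⟩
  rw [h6, Bool.not_true, Bool.false_or] at h5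
  rw [h3]
  exact memB_iff.mp h5

theorem fix2 {i : Fin 2058} (h : phi z i = i) (hi : i ∈ pts treeN) : (i : ℕ) ∈ ([226, 292] : List ℕ) := by
  have h1 := fix_z h
  unfold pts at hi
  rw [Finset.mem_image] at hi
  obtain ⟨k, -, hk⟩ := hi
  have h2 := tree_pos treeN k k.2
  have h3 : (i : ℕ) = look nOrd (0 + k) := by rw [← hk]
  have h4 := F42_2
  rw [List.all_eq_true] at h4
  have h5 := h4 i h1
  rw [h3, h2] at h5
  have h6 : Nat.blt (0 + (k : ℕ)) 90 = true := by
    have hk2 := k.2
    rw [Nat.blt_eq]; omega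
  rw [h6, Bool.not_true, Bool.false_or] at h5
  rw [h3]
  exact memB_iff.mp h5

theorem fixes : (F42.all fun i => Nat.beq (im [3] i) i) = true := by decide +kernel

theorem z_fix {i : Fin 2058} (h : (i : ℕ) ∈ F42) : phi z i = i := by
  have h1 := fixes
  rw [List.all_eq_true] at h1
  apply Fin.ext
  rw [z_apply]
  exact Nat.eq_of_beq_eq_true (h1 i h)

/-- the finset of the points with number in a list -/
def fs (l : List ℕ) : Finset (Fin 2058) := Finset.univ.filter fun i => (i : ℕ) ∈ l

theorem card_fs_le (l : List ℕ) : (fs l).card ≤ l.length := by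
  classical
  have h1 : (fs l).card ≤ l.toFinset.card := by
    apply Finset.card_le_card_of_injOn (fun i : Fin 2058 => (i : ℕ))
    · intro i hi
      rw [Finset.mem_coe, fs, Finset.mem_filter] at hi
      simpa using hi.2
    · intro i _ j _ hij
      exact Fin.ext hij
  exact h1.trans (List.toFinset_card_le l)

theorem mem_fs {l : List ℕ} {i : Fin 2058} : i ∈ fs l ↔ (i : ℕ) ∈ l := by
  simp [fs]

/-- the centraliser of `z` in the image -/
noncomputable def CZ : Subgroup (Equiv.Perm (Fin 2058)) := phi.range ⊓ Subgroup.centralizer {phi z}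

theorem CZ_fix {h : Equiv.Perm (Fin 2058)} (hh : h ∈ CZ) {i : Fin 2058} (hi : phi z i = i) :
    phi z (h i) = h i := by
  have h1 := Subgroup.mem_centralizer_singleton_iff.mp hh.2
  rw [← Equiv.Perm.mul_apply, ← h1, Equiv.Perm.mul_apply, hi]

theorem card_CZ_le : Nat.card CZ ≤ 21504 := by
  have z0 : phi z 0 = 0 := z_fix (by decide)
  have z1 : phi z 1 = 1 := z_fix (by decide)
  have z226 : phi z 226 = 226 := z_fix (by decide)
  have s1 : Nat.card CZ ≤ 42 * Nat.card (CZ ⊓ fixer 0 : Subgroup _) := by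
    refine (step_le CZ 0 (fs F42) ?_).trans (Nat.mul_le_mul_right _ (card_fs_le F42))
    intro h hh
    exact mem_fs.mpr (fix_z (CZ_fix hh z0))
  have s2 : Nat.card (CZ ⊓ fixer 0 : Subgroup _) ≤
      16 * Nat.card (CZ ⊓ fixer 0 ⊓ fixer 1 : Subgroup _) := by
    refine (step_le (CZ ⊓ fixer 0) 1 (fs F16) ?_).trans (Nat.mul_le_mul_right _ (card_fs_le F16))
    intro h hh
    exact mem_fs.mpr (fix16 (CZ_fix hh.1 z1) (orbit1 h ⟨hh.1.1, hh.2⟩))
  have s3 : Nat.card (CZ ⊓ fixer 0 ⊓ fixer 1 : Subgroup _) ≤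
      2 * Nat.card (CZ ⊓ fixer 0 ⊓ fixer 1 ⊓ fixer 226 : Subgroup _) := by
    refine (step_le (CZ ⊓ fixer 0 ⊓ fixer 1) 226 (fs [226, 292]) ?_).trans
      (Nat.mul_le_mul_right _ (card_fs_le _))
    intro h hh
    refine mem_fs.mpr (fix2 (CZ_fix hh.1.1 z226) (orbitN h ⟨⟨hh.1.1.1, hh.1.2⟩, hh.2⟩ _ ?_))
    have := Finset.mem_image.mpr (⟨0, Finset.mem_univ _, rfl⟩ :
      ∃ k ∈ (Finset.univ : Finset (Fin 90)), (⟨look nOrd (0 + (k : ℕ)), tree_lt treeN k k.2⟩ : Fin 2058) =
        ⟨look nOrd (0 + ((0 : Fin 90) : ℕ)), tree_lt treeN 0 (by norm_num)⟩)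
    unfold pts
    convert this using 1
    apply Fin.ext
    exact ordN0.symm
  have s4 : Nat.card (CZ ⊓ fixer 0 ⊓ fixer 1 ⊓ fixer 226 : Subgroup _) ≤ 16 := by
    refine (Subgroup.card_le_of_le ?_).trans card_K2_le
    rintro h ⟨⟨⟨h1, h2⟩, h3⟩, h4⟩
    exact ⟨⟨⟨h1.1, h2⟩, h3⟩, h4⟩
  omega

/-- **The centraliser of `z` has order at most 21504.** -/
theorem card_centralizer_le : Nat.card (Subgroup.centralizer ({z} : Set Cfsg.Spor.He)) ≤ 21504 := by
  refine le_trans ?_ card_CZ_le
  obtain ⟨hfin, hle⟩ := Cfsg.Agent.SporadicB.HeUpper.card_he_le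
  refine Nat.card_le_card_of_injective
    (fun g : Subgroup.centralizer ({z} : Set Cfsg.Spor.He) => (⟨phi g, ⟨g, rfl⟩, ?_⟩ : CZ)) ?_
  · show phi g ∈ Subgroup.centralizer {phi z}
    rw [Subgroup.mem_centralizer_singleton_iff, ← map_mul, ← map_mul,
      Subgroup.mem_centralizer_singleton_iff.mp g.2]
  · intro a b h
    have h1 : phi a = phi b := congrArg Subtype.val h
    exact Subtype.ext (Cfsg.Agent.HeldHe.Model.phi_inj h1)

end Cfsg.Agent.KFacts.He.Bound
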