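import Cfsg.Agent.KFacts.He.Bound
import Cfsg.Agent.Held.PresCard
import Cfsg.Agent.Held.GenC
import Cfsg.Agent.SporadicRecognition.HeldCard

/-!
# Facts about the presented Held group: the centraliser of `z` (helper579)

`C_He(z)` is isomorphic to the centraliser `CC` of a transvection of `L5(2)`, through the codes.
-/

set_option autoImplicit false

namespace Cfsg.Agent.KFacts.He.EmbCore

open Cfsg.Spor Cfsg.Spor.He Cfsg.Agent.KFacts.He.Words Cfsg.Agent.KFacts.He.Bound
  Cfsg.Agent.SporadicRecognition.CosetCert Cfsg.Agent.Held.Letters Cfsg.Agent.Held.Code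
  Cfsg.Agent.Held.EmbSt Cfsg.Agent.Lib.F2Mat

/-- the model of the centraliser -/
abbrev M : Subgroup SL := Subgroup.centralizer ({Held.Code.zz} : Set SL)

theorem card_M : Nat.card M = 21504 := SporadicRecognition.HeldModel.card_CC

/-- the subgroup generated by the root elements -/
abbrev R : Subgroup Cfsg.Spor.He := Subgroup.closure (gx xr '' {n | n < 12})

theorem exists_f : ∃ ph0 : ℕ → SL, Emb Held.Code.zz ph0 ∧
    (∀ (m : SL) (_ : m ∈ M) (a : ℕ), C a → toMat 5 a = m.1 → ph0 a = m) ∧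
    ∃ f : M →* Cfsg.Spor.He, (∀ n < 12, ∀ hn : ph0 (cx n) ∈ M, f ⟨ph0 (cx n), hn⟩ = gx xr n) ∧
      f.range = R := by
  obtain ⟨ph0, h0, hph⟩ := exists_emb Held.Code.zz M.subtype M.subtype_injective M.range_subtype
    (fun h => rfl)
  refine ⟨ph0, h0, fun m hm a ha e => hph m hm a ha e, ?_⟩
  have st0 := st_of_emb h0
  have hmem : ∀ n, ph0 (cx n) ∈ M := fun n => by
    rw [Subgroup.mem_centralizer_singleton_iff]
    exact h0.comm (C_cx n)
  let gM : ℕ → M := fun n => ⟨ph0 (cx n), hmem n⟩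
  have hsub : ∀ n, M.subtype (gM n) = gx (fun i j => ph0 (X i j)) n := fun n => (gx_ph h0 n).symm
  have hgen : Subgroup.closure (gM '' {n | n < 12}) = ⊤ := by
    apply Subgroup.map_injective M.subtype_injective
    rw [MonoidHom.map_closure, ← Set.image_comp, ← MonoidHom.range_eq_map, Subgroup.range_subtype]
    refine Eq.trans ?_ (Held.GenC.closure_gx h0)
    congr 1
    exact Set.image_congr fun n _ => hsub n
  let ι : M × Cfsg.Spor.He →* SL × Cfsg.Spor.He := MonoidHom.prodMap M.subtype (MonoidHom.id _)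
  have hι : Function.Injective ι := by
    rintro ⟨a, b⟩ ⟨c, d⟩ h
    have h1 : (a : SL) = c := congrArg Prod.fst h
    have h2 : b = d := congrArg Prod.snd h
    rw [Subtype.ext h1, h2]
  have hmap : (Subgroup.closure ((fun n => (gM n, gx xr n)) '' {n | n < 12})).map ι =
      Subgroup.closure (gx (fun i j => (ph0 (X i j), xr i j)) '' {n | n < 12}) := by
    rw [MonoidHom.map_closure, ← Set.image_comp]
    congr 1
    apply Set.image_congr
    intro n _
    rw [gx_prod]
    exact Prod.ext (hsub n) rfl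
  obtain ⟨hfin, hcard⟩ := Held.PresCard.card_C (St.prod st0 st)
  rw [← hmap] at hfin hcard
  rw [Subgroup.card_map_of_injective hι] at hcard
  have hfin' : Finite (Subgroup.closure ((fun n => (gM n, gx xr n)) '' {n | n < 12})) :=
    Finite.of_injective _ ((Subgroup.closure _).equivMapOfInjective ι hι).injective
  obtain ⟨f, hf, hr⟩ := exists_hom gM (gx xr) 12 hgen hfin' (hcard.trans card_M.ge)
  exact ⟨f, fun n hn _ => hf n hn, hr⟩

theorem ev_xr (r : List ℕ) (hr : ∀ l ∈ r, l < 12) : ev (gx xr) r = ev (gy xr y1 y2) r :=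
  ev_congr fun l hl => (gy_of_lt xr y1 y2 (hr l hl)).symm

theorem ev_mem_R (r : List ℕ) (hr : ∀ l ∈ r, l < 12) : ev (gx xr) r ∈ R :=
  ev_mem _ _ _ fun l hl => Subgroup.subset_closure ⟨l, hr l hl, rfl⟩

theorem dvd_of_order {w : List ℕ} (hw : ∀ l ∈ w, l < 12) {p : ℕ} (hp : p.Prime)
    (h1 : eqW (List.replicate p w).flatten [] = true) {i : ℕ} (hi : i < 2058)
    (h2 : Nat.beq (im w i) (im [] i) = false) : p ∣ Nat.card R := by
  have e1 := weq h1
  rw [ev_flatten, ev_nil] at e1
  have e2 := wne hi h2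
  rw [ev_nil] at e2
  have hf : Fact p.Prime := ⟨hp⟩
  have h3 : orderOf (ev (gy xr y1 y2) w) = p := orderOf_eq_prime e1 e2
  have h4 : ev (gy xr y1 y2) w ∈ R := by
    rw [← ev_xr w hw]; exact ev_mem_R w hw
  rw [← h3]
  have h5 := orderOf_dvd_natCard (⟨_, h4⟩ : R)
  rwa [Subgroup.orderOf_mk] at h5

theorem dvd7 : 7 ∣ Nat.card R :=
  dvd_of_order (w := [4,7,11,10]) (by decide) (by norm_num) (by decide +kernel) (i := 2) (by norm_num)
    (by decide +kernel)

theorem dvd3 : 3 ∣ Nat.card R :=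
  dvd_of_order (w := [4,10]) (by decide) (by norm_num) (by decide +kernel) (i := 2) (by norm_num)
    (by decide +kernel)

theorem gx3 : gx xr 3 = z := rfl

theorem R_le : R ≤ Subgroup.centralizer ({z} : Set Cfsg.Spor.He) := by
  rw [Subgroup.closure_le]
  rintro _ ⟨n, hn, rfl⟩
  have hn' : n < 12 := hn
  show gx xr n ∈ Subgroup.centralizer {z}
  rw [Subgroup.mem_centralizer_singleton_iff, ← gx3, ← gy_of_lt xr y1 y2 hn',
    ← gy_of_lt xr y1 y2 (show 3 < 12 by norm_num)]
  have h : ∀ n < 12, eqW [n, 3] [3, n] = true := by decide +kernel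
  have := weq (h n hn')
  simpa only [ev_cons, ev_nil, mul_one] using this

/-- **The centraliser of `z` through the codes**, given the order of a Sylow 2-subgroup. -/
theorem main (h2 : 1024 ∣ Nat.card R) :
    R = Subgroup.centralizer ({z} : Set Cfsg.Spor.He) ∧
    Nat.card (Subgroup.centralizer ({z} : Set Cfsg.Spor.He)) = 21504 ∧
    ∃ ph : ℕ → Cfsg.Spor.He, Emb z ph ∧ (∀ n < 12, ph (cx n) = gx xr n) ∧
      ∃ e : M ≃* Subgroup.centralizer ({z} : Set Cfsg.Spor.He),
        ∀ (m : SL) (hm : m ∈ M) (a : ℕ), C a → toMat 5 a = m.1 → (e ⟨m, hm⟩ : Cfsg.Spor.He) = ph a := by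
  obtain ⟨hfinHe, -⟩ := Cfsg.Agent.SporadicB.HeUpper.card_he_le
  obtain ⟨ph0, h0, hph0, f, hf, hr⟩ := exists_f
  have hcR : 21504 ∣ Nat.card R := by
    have h21 : Nat.Coprime 3 7 := by norm_num
    have h3 : 3 * 7 ∣ Nat.card R := h21.mul_dvd_of_dvd_of_dvd dvd3 dvd7
    have h4 : Nat.Coprime 1024 (3 * 7) := by norm_num
    exact h4.mul_dvd_of_dvd_of_dvd h2 h3
  have hcR' : Nat.card R = 21504 := by
    have h3 : Nat.card f.range ∣ Nat.card M := Subgroup.card_range_dvd f
    rw [hr, card_M] at h3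
    exact Nat.dvd_antisymm h3 hcR
  have hRc : R = Subgroup.centralizer ({z} : Set Cfsg.Spor.He) :=
    Subgroup.eq_of_le_of_card_ge R_le (card_centralizer_le.trans hcR'.ge)
  have hinj : Function.Injective f := by
    have hb : Function.Bijective f.rangeRestrict :=
      (Nat.bijective_iff_surjective_and_card f.rangeRestrict).mpr
        ⟨f.rangeRestrict_surjective, by rw [hr, hcR', card_M]⟩
    intro a b hab
    exact hb.1 (Subtype.ext hab)
  have hrange : f.range = Subgroup.centralizer ({z} : Set Cfsg.Spor.He) := hr.trans hRc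
  have hz : ∀ h : Held.Code.zz ∈ M, f ⟨Held.Code.zz, h⟩ = z := by
    intro h
    have e : ph0 (cx 3) = Held.Code.zz := by
      show ph0 (X 0 4) = _
      rw [zc_eq]; exact h0.z_eq
    have h1 : ph0 (cx 3) ∈ M := by rw [e]; exact h
    have h2 := hf 3 (by norm_num) h1
    rw [gx3] at h2
    rw [← h2]
    congr 1
    exact Subtype.ext e.symm
  obtain ⟨ph, hE, hph⟩ := exists_emb z f hinj hrange hz
  have hS : ∀ a (ha : C a), toS a ha ∈ M := by
    intro a ha
    rw [Subgroup.mem_centralizer_singleton_iff]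
    apply Subtype.ext
    have h2 : Lib.F2Mat.mul 5 a zc = Lib.F2Mat.mul 5 zc a := ha.2.1
    have h3 : toMat 5 a * Matrix.transvection 0 4 1 = Matrix.transvection 0 4 1 * toMat 5 a := by
      rw [← toMat_zc, ← toMat_mul, ← toMat_mul, h2]
    exact h3
  refine ⟨hRc, by rw [← hRc, hcR'], ph, hE, ?_, ?_⟩
  · intro n hn
    have e1 : ph0 (cx n) = toS (cx n) (C_cx n) := hph0 _ (hS _ _) _ (C_cx n) rfl
    have h1 : ph0 (cx n) ∈ M := by rw [e1]; exact hS _ _
    rw [← hf n hn h1]
    exact hph _ h1 _ (C_cx n) (by rw [e1]; rfl)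
  · refine ⟨(MonoidHom.ofInjective hinj).trans (MulEquiv.subgroupCongr hrange), ?_⟩
    intro m hm a ha e
    exact (hph m hm a ha e).symm

end Cfsg.Agent.KFacts.He.EmbCore
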