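import Cfsg.Agent.KFacts.He.Bound
import Cfsg.Agent.KFacts.TwoSix.OfSt

/-!
# `Hyp z ι` for the presented Held group (helper579)

`hyp_he`: the centraliser of the involution `z` of `Spor.He` is the image of an injective homomorphism
`ι : CC →* Spor.He` with `ι (x i j) = xr i j` for the twelve root elements of the letters.
-/

set_option autoImplicit false

namespace Cfsg.Agent.KFacts.He.Hyp

open Cfsg.Agent.KFacts.He.Words Cfsg.Agent.KFacts.He.Bound Cfsg.Agent.Held.Letters
  Cfsg.Agent.SporadicRecognition.CosetCert Cfsg.Agent.SporadicRecognition.HeldModel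

theorem z_ne_one : z ≠ 1 := by
  have h : ev (gy xr y1 y2) [3] ≠ ev (gy xr y1 y2) [] :=
    wne (i := 2) (by norm_num) (by decide +kernel)
  rw [ev_cons, ev_nil, mul_one] at h
  exact h

instance finHe : Finite Cfsg.Spor.He := Cfsg.Agent.SporadicB.HeUpper.card_he_le.1

theorem exists_iota : ∃ ι : CC →* Cfsg.Spor.He, Hyp z ι ∧
    ∀ n < 12, ι (gx TwoSix.OfSt.xC n) = gx xr n :=
  TwoSix.OfSt.hyp st z_ne_one card_centralizer_le

/-- **`Hyp z ι` for the Held group.** -/
theorem hyp_he : ∃ (z : Cfsg.Spor.He) (ι : CC →* Cfsg.Spor.He), Hyp z ι := by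
  obtain ⟨ι, h, -⟩ := exists_iota
  exact ⟨z, ι, h⟩

/-- the identification of the model with the centraliser of `z` -/
noncomputable def iota : CC →* Cfsg.Spor.He := Classical.choose exists_iota

theorem hyp : SporadicRecognition.HeldModel.Hyp z iota := (Classical.choose_spec exists_iota).1

theorem iota_xC : ∀ n < 12, iota (gx TwoSix.OfSt.xC n) = gx xr n := (Classical.choose_spec exists_iota).2

end Cfsg.Agent.KFacts.He.Hyp
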