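import Cfsg.Agent.KFacts.He.Classes
import Cfsg.Agent.KFacts.He.Outer
import Cfsg.Agent.KFacts.TwoSix.U

/-!
# (HE1): every automorphism `α` of the Held group with `α² = 1` fixes a 2A involution (helper579)

* `pair_conj`: commuting `e ∈ R1`, `f ∈ R2` outside the centre: `e f` is conjugate in `CC` to `x01 x24`;
* `exists_fix_CC`: an automorphism `b` of `CC`, `b² = 1`, mapping `R1` to `R2`, fixes a conjugate of `x01 x24`;
* `fix_of_hyp`: the same for outer automorphisms of a simple group with `Hyp z ι`;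
* `fix_v`, `fix_a`: `Spor.He`; `fix_of_iso`.
-/

set_option autoImplicit false

namespace Cfsg.Agent.KFacts.He.InvolAut

open Matrix Cfsg.Agent.SporadicRecognition.HeldModel Cfsg.Agent.Held.AffineIso
  Cfsg.Agent.KFacts.TwoSix.Base Cfsg.Agent.KFacts.TwoSix.Facts Cfsg.Agent.KFacts.TwoSix.Normal
  Cfsg.Agent.KFacts.TwoSix.Aut Cfsg.Agent.KFacts.TwoSix.U

theorem x01_eq : x 0 1 = ro (Pi.single 0 1) := by
  apply ext_CC (x_mem _ (by decide) (by decide)) (ro_mem _)
  · rw [top_ro]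
    funext j
    rw [top_apply, coe_x, transvection_apply', Pi.single_apply]
    revert j; decide
  · rw [low_ro]
    ext i j
    rw [low_apply, coe_x, transvection_apply', Matrix.one_apply]
    revert i j; decide

theorem x02_eq : x 0 2 = ro (Pi.single 1 1) := by
  apply ext_CC (x_mem _ (by decide) (by decide)) (ro_mem _)
  · rw [top_ro]
    funext j
    rw [top_apply, coe_x, transvection_apply', Pi.single_apply]
    revert j; decide
  · rw [low_ro]
    ext i j
    rw [low_apply, coe_x, transvection_apply', Matrix.one_apply]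
    revert i j; decide

theorem cases_phi : ∀ φ : F4, φ 2 = 0 → φ ≠ 0 → φ ≠ Pi.single 3 1 →
    φ = Pi.single 1 1 ∨ φ = Pi.single 1 1 + Pi.single 3 1 ∨ φ = Pi.single 0 1 ∨
    φ = Pi.single 0 1 + Pi.single 3 1 ∨ φ = Pi.single 0 1 + Pi.single 1 1 ∨
    φ = Pi.single 0 1 + Pi.single 1 1 + Pi.single 3 1 := by
  decide +kernel

theorem tau_x' (i j k l : Fin 5) (h : i ≠ j) (hk : k = j.rev) (hl : l = i.rev) :
    ∃ h' : k ≠ l, tau (x i j h) = x k l h' := by
  subst hk hl
  exact ⟨fun e => h (Fin.rev_injective e).symm, tau_x i j h⟩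

theorem tau_s0 : tau (ro (Pi.single 0 1)) = x 3 4 := by rw [← x01_eq]; exact (tau_x' 0 1 3 4 _ rfl rfl).2
theorem tau_s1 : tau (ro (Pi.single 1 1)) = x 2 4 := by rw [← x02_eq]; exact (tau_x' 0 2 2 4 _ rfl rfl).2
theorem tau_s3 : tau (ro (Pi.single 3 1)) = x 0 4 := by rw [← zz_eq, tau_zz]; rfl

theorem comm_of_eq {G : Type*} [Group G] {p a b : G} (h : p * a = b * p) : p * a * p⁻¹ = b := by
  rw [h, mul_inv_cancel_right]

/-- **commuting `e ∈ R1`, `f ∈ R2` outside the centre: `e f` is conjugate to `x01 x24`** -/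
theorem pair_conj {e f : L5} (he : e ∈ R1) (he1 : e ≠ 1) (hez : e ≠ zz) (hf : f ∈ R2) (hf1 : f ≠ 1)
    (hfz : f ≠ zz) (hc : e * f = f * e) : ∃ p ∈ CC, p * (e * f) * p⁻¹ = x 0 1 * x 2 4 := by
  have h01 : x 0 1 ∈ R1 := by rw [x01_eq]; exact ro_mem_R1 _
  have h01' : x 0 1 ≠ 1 := by
    intro h; have := congrArg cd h; rw [cd_x, cd_one] at this; revert this; decide +kernel
  have h01z : x 0 1 ≠ zz := by
    intro h; have := congrArg cd h; rw [zz, cd_x, cd_x] at this; revert this; decide +kernel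
  obtain ⟨p, hp, hpe⟩ := trans_R1 he he1 hez h01 h01' h01z
  -- `f₁ = p f p⁻¹`
  have hf1' : p * f * p⁻¹ ∈ R2 := norm_R2 hp hf
  obtain ⟨φ, hφ⟩ := mem_R1_low'.1 (tau_mem_R1 hf1')
  have hfφ : p * f * p⁻¹ = tau (ro φ) := by rw [← hφ, tau_tau]
  have hcc : x 0 1 * tau (ro φ) = tau (ro φ) * x 0 1 := by
    rw [← hfφ, ← hpe]
    calc p * e * p⁻¹ * (p * f * p⁻¹) = p * (e * f) * p⁻¹ := by group
      _ = p * (f * e) * p⁻¹ := by rw [hc]
      _ = _ := by group
  have h34 : x 3 4 ∈ CC := x_mem _ (by decide) (by decide)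
  have hcc' : x 3 4 * ro φ = ro φ * x 3 4 := by
    have h1 := congrArg tau hcc
    rw [map_mul, map_mul, tau_tau, (tau_x' 0 1 3 4 _ rfl rfl).2] at h1
    exact h1
  have h2 : φ 2 = 0 := by
    have h3 := congrFun (congrArg top hcc') 3
    rw [top_mul h34 (ro_mem _), top_mul (ro_mem _) h34, top_ro, low_ro, Matrix.vecMul_one] at h3
    have h4 : ∀ j : Fin 4, low (x 3 4) j 3 = if j = 2 ∨ j = 3 then 1 else 0 := by
      intro j
      rw [low_apply, coe_x, transvection_apply']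
      revert j; decide
    have h5 : (φ ᵥ* low (x 3 4)) 3 = φ 2 + φ 3 := by
      rw [Matrix.vecMul, dotProduct, Fin.sum_univ_four, h4, h4, h4, h4]
      simp
    rw [Pi.add_apply, Pi.add_apply, h5, add_comm] at h3
    have h6 := add_left_cancel h3
    exact (add_eq_right.1 h6.symm)
  have h0 : φ ≠ 0 := by
    rintro rfl
    rw [ro_zero, map_one] at hfφ
    apply hf1
    calc f = p⁻¹ * (p * f * p⁻¹) * p := by group
      _ = 1 := by rw [hfφ]; group
  have h3 : φ ≠ Pi.single 3 1 := by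
    rintro rfl
    rw [← zz_eq, tau_zz] at hfφ
    apply hfz
    calc f = p⁻¹ * (p * f * p⁻¹) * p := by group
      _ = p⁻¹ * (zz * p) := by rw [hfφ]; group
      _ = zz := by rw [← zz_comm hp]; group
  have key : ∃ q ∈ CC, q * (x 0 1 * tau (ro φ)) * q⁻¹ = x 0 1 * x 2 4 := by
    have m02 : x 0 2 ∈ CC := x_mem _ (by decide) (by decide)
    have m03 : x 0 3 ∈ CC := x_mem _ (by decide) (by decide)
    have m23 : x 2 3 ∈ CC := x_mem _ (by decide) (by decide)
    have m32 : x 3 2 ∈ CC := x_mem _ (by decide) (by decide)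
    rcases cases_phi φ h2 h0 h3 with rfl | rfl | rfl | rfl | rfl | rfl
    · exact ⟨1, one_mem _, by rw [tau_s1]; group⟩
    · refine ⟨x 0 2, m02, comm_of_eq ?_⟩
      rw [ro_add, map_mul, tau_s1, tau_s3]
      apply cd_inj
      simp only [cd_mul, cd_x]
      decide +kernel
    · refine ⟨x 2 3 * x 3 2 * x 2 3, mul_mem (mul_mem m23 m32) m23, comm_of_eq ?_⟩
      rw [tau_s0]
      apply cd_inj
      simp only [cd_mul, cd_x]
      decide +kernel
    · refine ⟨x 2 3 * x 3 2 * x 2 3 * x 0 3, mul_mem (mul_mem (mul_mem m23 m32) m23) m03, comm_of_eq ?_⟩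
      rw [ro_add, map_mul, tau_s0, tau_s3]
      apply cd_inj
      simp only [cd_mul, cd_x]
      decide +kernel
    · refine ⟨x 3 2, m32, comm_of_eq ?_⟩
      rw [ro_add, map_mul, tau_s0, tau_s1]
      apply cd_inj
      simp only [cd_mul, cd_x]
      decide +kernel
    · refine ⟨x 3 2 * x 0 2, mul_mem m32 m02, comm_of_eq ?_⟩
      rw [ro_add, ro_add, map_mul, map_mul, tau_s0, tau_s1, tau_s3]
      apply cd_inj
      simp only [cd_mul, cd_x]
      decide +kernel
  obtain ⟨q, hq, hqe⟩ := key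
  refine ⟨q * p, mul_mem hq hp, ?_⟩
  rw [← hqe, ← hfφ, ← hpe]
  group

/-- `x01 x24` in `CC` -/
def vC : CC := ⟨x 0 1 * x 2 4, mul_mem (x_mem _ (by decide) (by decide)) (x_mem _ (by decide) (by decide))⟩

/-- **an automorphism `b` of `CC`, `b² = 1`, mapping `R1` to `R2`, fixes a conjugate of `x01 x24`** -/
theorem exists_fix_CC (b : CC ≃* CC) (hb : ∀ u, b (b u) = u)
    (h : ∀ e : CC, (e : L5) ∈ R1 → ((b e : CC) : L5) ∈ R2) : ∃ p : CC, b (p * vC * p⁻¹) = p * vC * p⁻¹ := by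
  -- commuting `e`, `b e`
  have key : ∀ e : CC, (e : L5) ∈ R1 → e ≠ 1 → e ≠ zC → e * b e = b e * e →
      ∃ p : CC, b (p * vC * p⁻¹) = p * vC * p⁻¹ := by
    intro e he h1 hz hc
    obtain ⟨p, hp, hpe⟩ := pair_conj he (fun e' => h1 (Subtype.ext e')) (fun e' => hz (Subtype.ext e')) (h e he)
      (fun e' => h1 (b.injective (by rw [map_one]; exact Subtype.ext e')))
      (fun e' => hz (b.injective (by rw [aut_zC]; exact Subtype.ext e')))
      (congrArg Subtype.val hc)
    have hpe' : (⟨p, hp⟩ : CC) * (e * b e) * (⟨p, hp⟩ : CC)⁻¹ = vC := Subtype.ext hpe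
    refine ⟨(⟨p, hp⟩ : CC)⁻¹, ?_⟩
    have h2 : (⟨p, hp⟩ : CC)⁻¹ * vC * ((⟨p, hp⟩ : CC)⁻¹)⁻¹ = e * b e := by
      rw [← hpe']; group
    rw [h2, map_mul, hb, hc]
  have hzz : zC * zC = 1 := Subtype.ext zz_sq
  have hzc : ∀ g : CC, g * zC = zC * g := fun g => Subtype.ext (zz_comm g.2)
  -- the pairing
  have pr : ∀ e f : CC, (e : L5) ∈ R1 → (f : L5) ∈ R1 → e * b f = b f * e ∨ e * b f = zC * (b f * e) := by
    intro e f he hf
    rcases pair he (R2_le_QQ (h f hf)) with h1 | h1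
    · left
      have h2 : e * b f * e⁻¹ * (b f)⁻¹ = 1 := Subtype.ext h1
      calc e * b f = e * b f * e⁻¹ * (b f)⁻¹ * (b f * e) := by group
        _ = b f * e := by rw [h2, one_mul]
    · right
      have h2 : e * b f * e⁻¹ * (b f)⁻¹ = zC := Subtype.ext h1
      calc e * b f = e * b f * e⁻¹ * (b f)⁻¹ * (b f * e) := by group
        _ = zC * (b f * e) := by rw [h2]
  have r0 : ((rC (Pi.single 0 1) : CC) : L5) ∈ R1 := ro_mem_R1 _
  have r1 : ((rC (Pi.single 1 1) : CC) : L5) ∈ R1 := ro_mem_R1 _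
  have r2 : ((rC (Pi.single 0 1 + Pi.single 1 1) : CC) : L5) ∈ R1 := ro_mem_R1 _
  have n0 : ∀ f : F4, f ≠ 0 → rC f ≠ 1 := by
    intro f hf e
    apply hf
    apply rC_inj
    rw [e]
    exact Subtype.ext ro_zero.symm
  have n3 : ∀ f : F4, f ≠ Pi.single 3 1 → rC f ≠ zC := by
    intro f hf e
    rw [zC_eq] at e
    exact hf (rC_inj e)
  rcases pr _ _ r0 r0 with c0 | c0
  · exact key _ r0 (n0 _ (by decide)) (n3 _ (by decide)) c0
  rcases pr _ _ r1 r1 with c1 | c1
  · exact key _ r1 (n0 _ (by decide)) (n3 _ (by decide)) c1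
  refine key _ r2 (n0 _ (by decide)) (n3 _ (by decide)) ?_
  rw [rC_add]
  set e := rC (Pi.single 0 1) with he
  set f := rC (Pi.single 1 1) with hf
  rw [map_mul]
  rcases pr _ _ r0 r1 with c2 | c2
  · have c3 : f * b e = b e * f := by
      have h1 := congrArg b c2
      rw [map_mul, map_mul, hb] at h1
      exact h1.symm
    calc e * f * (b e * b f) = e * (f * b e) * b f := by group
      _ = e * b e * (f * b f) := by rw [c3]; group
      _ = zC * (b e * e) * (zC * (b f * f)) := by rw [c0, c1]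
      _ = zC * (b e * e * zC) * (b f * f) := by group
      _ = zC * zC * b e * (e * b f) * f := by rw [hzc (b e * e)]; group
      _ = b e * b f * (e * f) := by rw [c2, hzz]; group
  · have c3 : f * b e = zC * (b e * f) := by
      have h1 := congrArg b c2
      rw [map_mul, map_mul, map_mul, hb, aut_zC] at h1
      rw [h1, ← mul_assoc, hzz, one_mul]
    calc e * f * (b e * b f) = e * (f * b e) * b f := by group
      _ = e * zC * (b e * f) * b f := by rw [c3]; group
      _ = zC * (e * b e) * (f * b f) := by rw [hzc e]; group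
      _ = zC * (zC * (b e * e)) * (zC * (b f * f)) := by rw [c0, c1]
      _ = zC * zC * (b e * e * zC) * (b f * f) := by group
      _ = zC * b e * (e * b f) * f := by rw [hzc (b e * e), hzz]; group
      _ = zC * (b e * zC) * b f * (e * f) := by rw [c2]; group
      _ = zC * zC * b e * b f * (e * f) := by rw [hzc (b e)]; group
      _ = b e * b f * (e * f) := by rw [hzz]; group

section Hyp

open Cfsg.Agent.OddHalf.UT5.KBasic

variable {G : Type*} [Group G] {z : G} {ι : CC →* G}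

/-- an outer automorphism of order 2 fixing `z` fixes a conjugate of `ι vC` -/
theorem fix_of_fix [Finite G] [IsSimpleGroup G] (h : SporadicRecognition.HeldModel.Hyp z ι) (α : MulAut G)
    (h2 : ∀ x, α (α x) = x) (hz : α z = z) (ho : α ∉ (MulAut.conj : G →* MulAut G).range) :
    ∃ g : G, α (g * ι vC * g⁻¹) = g * ι vC * g⁻¹ := by
  obtain ⟨b, hb⟩ := exists_b h α hz
  have hbb : ∀ u, b (b u) = u := fun u => h.inj (by rw [hb, hb, h2])
  rcases aut_cases b with h1 | h1
  · exfalso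
    obtain ⟨p, hp⟩ := aut_inner b h1
    exact ho (inner_of h (c := p) fun u => by rw [← hb, hp, map_mul, map_mul, map_inv])
  · obtain ⟨p, hp⟩ := exists_fix_CC b hbb h1
    refine ⟨ι p, ?_⟩
    have h3 := hb (p * vC * p⁻¹)
    rw [hp, map_mul, map_mul, map_inv] at h3
    exact h3.symm

/-- an automorphism of order 2 fixes a conjugate of `z` -/
theorem exists_fix_z [Finite G] [IsSimpleGroup G] (h : SporadicRecognition.HeldModel.Hyp z ι) (α : MulAut G)
    (h2 : α * α = 1) : ∃ g : G, α (g * z * g⁻¹) = g * z * g⁻¹ := by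
  have : Fact (Nat.Prime 2) := ⟨Nat.prime_two⟩
  have hP : IsPGroup 2 ↥(Subgroup.zpowers α) := by
    have : Nat.card ↥(Subgroup.zpowers α) ∣ 2 := by
      rw [Nat.card_zpowers]
      exact orderOf_dvd_of_pow_eq_one (by rw [pow_two, h2])
    rcases (Nat.dvd_prime Nat.prime_two).1 this with e | e
    · exact IsPGroup.of_card (n := 0) (by rw [e]; rfl)
    · exact IsPGroup.of_card (n := 1) (by rw [e]; rfl)
  obtain ⟨S, hS⟩ := hP.nonempty_fixed_point_of_prime_not_dvd_card (Sylow 2 G) (not_dvd_card_sylow 2 G)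
  obtain ⟨T, hT⟩ := exists_sylow h
  obtain ⟨g, hg⟩ := MulAction.exists_smul_eq G T S
  have hαS : ∀ x ∈ (S : Subgroup G), α x ∈ (S : Subgroup G) := by
    intro x hx
    have h1 := hS ⟨α, Subgroup.mem_zpowers α⟩
    have h3 : (⟨α, Subgroup.mem_zpowers α⟩ : ↥(Subgroup.zpowers α)) • x ∈
        (((⟨α, Subgroup.mem_zpowers α⟩ : ↥(Subgroup.zpowers α)) • S : Sylow 2 G) : Subgroup G) :=
      Subgroup.smul_mem_pointwise_smul _ _ _ hx
    rw [h1] at h3
    exact h3
  have hmem : ∀ x, x ∈ (S : Subgroup G) ↔ g⁻¹ * x * g ∈ (T : Subgroup G) := by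
    intro x
    rw [← hg, Sylow.coe_subgroup_smul, Subgroup.mem_pointwise_smul_iff_inv_smul_mem]
    have e : (MulAut.conj g)⁻¹ • x = g⁻¹ * x * g := by
      rw [← map_inv, MulAut.smul_def, MulAut.conj_apply, inv_inv]
    rw [e]
  have hzT : z ∈ (T : Subgroup G) := by
    rw [hT]; exact ⟨zC, x_mem_T0 (by decide), h.map_zz⟩
  have hzS : g * z * g⁻¹ ∈ (S : Subgroup G) := by
    rw [hmem]
    have e : g⁻¹ * (g * z * g⁻¹) * g = z := by group
    rwa [e]
  have hTz : ∀ t ∈ (T : Subgroup G), t * z = z * t := by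
    intro t ht
    rw [hT] at ht
    obtain ⟨u, -, rfl⟩ := ht
    exact comm_z h u
  have hSz : ∀ s ∈ (S : Subgroup G), s * (g * z * g⁻¹) = g * z * g⁻¹ * s := by
    intro s hs
    have h3 := hTz _ ((hmem s).1 hs)
    calc s * (g * z * g⁻¹) = g * (g⁻¹ * s * g * z) * g⁻¹ := by group
      _ = g * (z * (g⁻¹ * s * g)) * g⁻¹ := by rw [h3]
      _ = g * z * g⁻¹ * s := by group
  refine ⟨g, ?_⟩
  set w := α (g * z * g⁻¹) with hw
  have hwS : w ∈ (S : Subgroup G) := hαS _ hzS
  have hαα : ∀ x, α (α x) = x := fun x => by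
    rw [← MulAut.mul_apply, h2]; rfl
  have hwc : ∀ s ∈ (S : Subgroup G), s * w = w * s := by
    intro s hs
    have h3 := congrArg α (hSz _ (hαS s hs))
    rw [map_mul, map_mul α (g * z * g⁻¹), hαα] at h3
    exact h3
  have h3 : g⁻¹ * w * g = 1 ∨ g⁻¹ * w * g = z := by
    refine center_T0 h (hTz _ ((hmem w).1 hwS)) ?_
    intro u hu
    have h4 : ι u ∈ (T : Subgroup G) := by rw [hT]; exact ⟨u, hu, rfl⟩
    have h5 : g * ι u * g⁻¹ ∈ (S : Subgroup G) := by
      rw [hmem]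
      have e : g⁻¹ * (g * ι u * g⁻¹) * g = ι u := by group
      rwa [e]
    have h6 := hwc _ h5
    calc ι u * (g⁻¹ * w * g) = g⁻¹ * (g * ι u * g⁻¹ * w) * g := by group
      _ = g⁻¹ * (w * (g * ι u * g⁻¹)) * g := by rw [h6]
      _ = g⁻¹ * w * g * ι u := by group
  rcases h3 with e | e
  · exfalso
    have h4 : w = 1 := by
      calc w = g * (g⁻¹ * w * g) * g⁻¹ := by group
        _ = 1 := by rw [e]; group
    rw [hw] at h4
    have h5 : g * z * g⁻¹ = 1 := α.injective (by rw [h4, map_one])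
    apply Held.Pattern.z_ne_one h
    calc z = g⁻¹ * (g * z * g⁻¹) * g := by group
      _ = 1 := by rw [h5]; group
  · calc w = g * (g⁻¹ * w * g) * g⁻¹ := by group
      _ = g * z * g⁻¹ := by rw [e]

/-- an outer automorphism of order 2 fixes a conjugate of `ι vC` -/
theorem fix_of_hyp [Finite G] [IsSimpleGroup G] (h : SporadicRecognition.HeldModel.Hyp z ι) (α : MulAut G)
    (h2 : α * α = 1) (ho : α ∉ (MulAut.conj : G →* MulAut G).range) :
    ∃ g : G, α (g * ι vC * g⁻¹) = g * ι vC * g⁻¹ := by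
  obtain ⟨k, hk⟩ := exists_fix_z h α h2
  have hαα : ∀ x, α (α x) = x := fun x => by
    rw [← MulAut.mul_apply, h2]; rfl
  have e1 : ∀ x, ((MulAut.conj k)⁻¹ * α * MulAut.conj k) x = k⁻¹ * α (k * x * k⁻¹) * k := by
    intro x
    rw [MulAut.mul_apply, MulAut.mul_apply, MulAut.conj_apply, MulAut.conj_inv_apply]
  obtain ⟨g, hg⟩ := fix_of_fix h ((MulAut.conj k)⁻¹ * α * MulAut.conj k) (by
      intro x
      rw [e1, e1]
      have e2 : k * (k⁻¹ * α (k * x * k⁻¹) * k) * k⁻¹ = α (k * x * k⁻¹) := by group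
      rw [e2, hαα]
      group) (by
      rw [e1, hk]
      group) (by
      intro h3
      apply ho
      have h4 := conj_range_normal (MulAut.conj k) h3
      have h5 : MulAut.conj k * ((MulAut.conj k)⁻¹ * α * MulAut.conj k) * (MulAut.conj k)⁻¹ = α := by group
      rwa [h5] at h4)
  rw [e1] at hg
  refine ⟨k * g, ?_⟩
  have e3 : k * g * ι vC * (k * g)⁻¹ = k * (g * ι vC * g⁻¹) * k⁻¹ := by group
  rw [e3]
  calc α (k * (g * ι vC * g⁻¹) * k⁻¹) = k * (k⁻¹ * α (k * (g * ι vC * g⁻¹) * k⁻¹) * k) * k⁻¹ := by group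
    _ = k * (g * ι vC * g⁻¹) * k⁻¹ := by rw [hg]

end Hyp

section He

open Cfsg.Agent.KFacts.He.Words Cfsg.Agent.Held.Letters

theorem vC_eq : vC = TwoSix.OfSt.xC 0 1 * TwoSix.OfSt.xC 2 4 := by
  rw [show (TwoSix.OfSt.xC 0 1 : CC) = _ from TwoSix.OfSt.xC_eq (i := 0) (j := 1) (by decide) (by decide) (by decide),
    show (TwoSix.OfSt.xC 2 4 : CC) = _ from TwoSix.OfSt.xC_eq (i := 2) (j := 4) (by decide) (by decide) (by decide)]
  rfl

theorem iota_vC : Hyp.iota vC = Classes.v := by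
  rw [vC_eq, map_mul]
  have h0 : Hyp.iota (TwoSix.OfSt.xC 0 1) = xr 0 1 := Hyp.iota_xC 0 (by decide)
  have h8 : Hyp.iota (TwoSix.OfSt.xC 2 4) = xr 2 4 := Hyp.iota_xC 8 (by decide)
  rw [h0, h8]
  unfold Classes.v
  rw [SporadicRecognition.CosetCert.ev_cons, SporadicRecognition.CosetCert.ev_cons,
    SporadicRecognition.CosetCert.ev_nil, mul_one]
  rfl

theorem v_ne : Classes.v ≠ 1 := by
  rw [← iota_vC]
  intro h
  have h1 : vC = 1 := Hyp.hyp.inj (by rw [h, map_one])
  have h2 : x 0 1 * x 2 4 = (1 : L5) := congrArg Subtype.val h1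
  have h3 := congrArg cd h2
  rw [cd_mul, cd_x, cd_x, cd_one] at h3
  revert h3
  decide +kernel

/-- **(HE1)**: an automorphism `α` of the Held group with `α² = 1` fixes a conjugate of `v` -/
theorem fix_v (α : MulAut Cfsg.Spor.He) (h : α * α = 1) :
    ∃ g : Cfsg.Spor.He, α (g * Classes.v * g⁻¹) = g * Classes.v * g⁻¹ := by
  by_cases ho : α ∈ (MulAut.conj : Cfsg.Spor.He →* MulAut Cfsg.Spor.He).range
  · obtain ⟨k, rfl⟩ := ho
    have hk : k * k = 1 := by
      have h1 : MulAut.conj (k * k) = 1 := by rw [map_mul, h]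
      have h2 : k * k ∈ Subgroup.center Cfsg.Spor.He := by
        rw [Subgroup.mem_center_iff]
        intro x
        have h3 := congrArg (fun β : MulAut Cfsg.Spor.He => β x) h1
        simp only [MulAut.conj_apply, MulAut.one_apply] at h3
        rw [mul_inv_eq_iff_eq_mul] at h3
        exact h3.symm
      have hnc : Subgroup.center Cfsg.Spor.He ≠ ⊤ := by
        intro hc
        have h4 : Hyp.iota ⟨x 0 1, x_mem _ (by decide) (by decide)⟩ ∈ Subgroup.center Cfsg.Spor.He := by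
          rw [hc]; trivial
        have h5 := Subgroup.mem_center_iff.1 h4 (Hyp.iota ⟨x 1 4, x_mem _ (by decide) (by decide)⟩)
        rw [← map_mul, ← map_mul] at h5
        have h6 : x 1 4 * x 0 1 = (x 0 1 * x 1 4 : L5) := congrArg Subtype.val (Hyp.hyp.inj h5)
        have h7 := congrArg cd h6
        rw [cd_mul, cd_mul, cd_x, cd_x] at h7
        revert h7
        decide +kernel
      rcases (inferInstance : (Subgroup.center Cfsg.Spor.He).Normal).eq_bot_or_eq_top with h4 | h4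
      · rw [h4] at h2
        exact Subgroup.mem_bot.1 h2
      · exact absurd h4 hnc
    by_cases k1 : k = 1
    · exact ⟨1, by rw [k1, map_one]; rfl⟩
    rcases Classes.two_classes hk k1 with ⟨g, hg⟩ | ⟨g, hg⟩
    · refine ⟨g, ?_⟩
      have hc : Bound.z * Classes.v = Classes.v * Bound.z := by
        rw [← iota_vC]
        exact (OddHalf.UT5.KBasic.comm_z Hyp.hyp vC).symm
      rw [← hg, MulAut.conj_apply]
      calc g * Bound.z * g⁻¹ * (g * Classes.v * g⁻¹) * (g * Bound.z * g⁻¹)⁻¹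
          = g * (Bound.z * Classes.v) * Bound.z⁻¹ * g⁻¹ := by group
        _ = g * Classes.v * g⁻¹ := by rw [hc]; group
    · refine ⟨g, ?_⟩
      rw [hg, MulAut.conj_apply]
      group
  · obtain ⟨g, hg⟩ := fix_of_hyp Hyp.hyp α h ho
    rw [iota_vC] at hg
    exact ⟨g, hg⟩

/-- the same with the generator `a` -/
theorem fix_a (α : MulAut Cfsg.Spor.He) (h : α * α = 1) :
    ∃ g : Cfsg.Spor.He, α (g * PresentedGroup.of Cfsg.Spor.He.Gen.a * g⁻¹) =
      g * PresentedGroup.of Cfsg.Spor.He.Gen.a * g⁻¹ := by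
  obtain ⟨g, hg⟩ := fix_v α h
  refine ⟨g * (xr 1 3)⁻¹, ?_⟩
  have e : g * (xr 1 3)⁻¹ * PresentedGroup.of Cfsg.Spor.He.Gen.a * (g * (xr 1 3)⁻¹)⁻¹ = g * Classes.v * g⁻¹ := by
    rw [← Classes.v_a]
    group
  rw [e, hg]

/-- transported -/
theorem fix_of_iso {K : Type*} [Group K] (e : K ≃* Cfsg.Spor.He) (α : MulAut K) (h : ∀ x, α (α x) = x) :
    ∃ g : Cfsg.Spor.He, α (e.symm (g * PresentedGroup.of Cfsg.Spor.He.Gen.a * g⁻¹)) =
      e.symm (g * PresentedGroup.of Cfsg.Spor.He.Gen.a * g⁻¹) := by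
  let β : MulAut Cfsg.Spor.He := (e.symm.trans α).trans e
  have hβ : ∀ x, β x = e (α (e.symm x)) := fun x => rfl
  obtain ⟨g, hg⟩ := fix_a β (by
    apply MulEquiv.ext
    intro x
    rw [MulAut.mul_apply, hβ, hβ, e.symm_apply_apply, h, e.apply_symm_apply]
    rfl)
  refine ⟨g, ?_⟩
  rw [hβ] at hg
  apply e.injective
  rw [hg, e.apply_symm_apply]

end He

end Cfsg.Agent.KFacts.He.InvolAut
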