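import Mathlib
import Cfsg.Agent.KFacts.He.TwoAAut

/-!
# The commuting graph on the involutions of type 2A of the Held group is connected

`conn`: a set of elements containing an element of type 2A and closed under passing to commuting elements of type 2A
contains all elements of type 2A.
-/

set_option autoImplicit false

namespace Cfsg.Agent.KFacts.He.RecGraph

open Subgroup Cfsg
open Cfsg.Spor Cfsg.Spor.He Cfsg.Agent.SporadicB.HePerm Cfsg.Agent.FixBN.HeStab
open Cfsg.Agent.KFacts.He.Lv Cfsg.Agent.KFacts.He.TwoACent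

/-- adjacency -/
def Adj (x y : Cfsg.Spor.He) : Prop := IsConj (gn .a) x ∧ IsConj (gn .a) y ∧ x * y = y * x

theorem Adj.symm {x y : Cfsg.Spor.He} (h : Adj x y) : Adj y x := ⟨h.2.1, h.1, h.2.2.symm⟩

theorem Adj.conj {x y : Cfsg.Spor.He} (h : Adj x y) (g : Cfsg.Spor.He) :
    Adj (g * x * g⁻¹) (g * y * g⁻¹) := by
  refine ⟨h.1.trans (isConj_iff.mpr ⟨g, rfl⟩), h.2.1.trans (isConj_iff.mpr ⟨g, rfl⟩), ?_⟩
  calc g * x * g⁻¹ * (g * y * g⁻¹) = g * (x * y) * g⁻¹ := by group
    _ = g * (y * x) * g⁻¹ := by rw [h.2.2]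
    _ = g * y * g⁻¹ * (g * x * g⁻¹) := by group

/-- reachability -/
def Re (x y : Cfsg.Spor.He) : Prop := Relation.ReflTransGen Adj x y

theorem Re.symm {x y : Cfsg.Spor.He} (h : Re x y) : Re y x := by
  unfold Re at *
  induction h with
  | refl => exact .refl
  | tail _ h1 ih => exact Relation.ReflTransGen.head h1.symm ih

theorem Re.trans {x y z : Cfsg.Spor.He} (h : Re x y) (h' : Re y z) : Re x z :=
  Relation.ReflTransGen.trans h h'

theorem Re.conj {x y : Cfsg.Spor.He} (h : Re x y) (g : Cfsg.Spor.He) : Re (g * x * g⁻¹) (g * y * g⁻¹) := by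
  unfold Re at *
  induction h with
  | refl => exact .refl
  | tail _ h1 ih => exact ih.tail (h1.conj g)

/-- the stabilizer of the component of `a` -/
def N : Subgroup Cfsg.Spor.He where
  carrier := {g | Re (gn .a) (g * gn .a * g⁻¹)}
  one_mem' := by
    show Re _ _
    rw [one_mul, inv_one, mul_one]
    exact .refl
  mul_mem' := by
    intro g h hg hh
    show Re _ _
    have h1 := Re.conj hh g
    refine Re.trans hg ?_
    rwa [show g * h * gn .a * (g * h)⁻¹ = g * (h * gn .a * h⁻¹) * g⁻¹ by group]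
  inv_mem' := by
    intro g hg
    show Re _ _
    have h1 := Re.symm (Re.conj hg g⁻¹)
    rwa [show g⁻¹ * (g * gn .a * g⁻¹) * g⁻¹⁻¹ = gn .a by group] at h1

/-- the element `(ab)²` -/
def tw : List Gen := [.a, .b, .a, .b]

/-- `(ab)²` is conjugate to `a` -/
def cw : List Gen := [.c, .d, .f, .c, .d, .c, .d, .f, .d, .c, .d, .c, .b]

theorem t_conj : IsConj (gn .a) (wd tw) := by
  have h := eq_of_chkB (v := cw ++ [.a]) (w := tw ++ cw) (by decide +kernel)
  rw [wd_append, wd_append, wd_one] at h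
  exact isConj_iff.mpr ⟨wd cw, by rw [h, mul_inv_cancel_right]⟩

theorem t_comm_a : gn .a * wd tw = wd tw * gn .a := by
  have h := eq_of_chkB (v := [.a] ++ tw) (w := tw ++ [.a]) (by decide +kernel)
  rwa [wd_append, wd_append, wd_one] at h

theorem t_comm_b : gn .b * wd tw = wd tw * gn .b := by
  have h := eq_of_chkB (v := [.b] ++ tw) (w := tw ++ [.b]) (by decide +kernel)
  rwa [wd_append, wd_append, wd_one] at h

theorem b_mem_N : gn .b ∈ N := by
  show Re _ _
  have h1 : Re (gn .a) (wd tw) := .single ⟨IsConj.refl _, t_conj, t_comm_a⟩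
  have h2 := h1.conj (gn .b)
  rw [t_comm_b, mul_inv_cancel_right] at h2
  exact h1.trans h2.symm

theorem comm_mem_N {x : Cfsg.Spor.He} (h : x * gn .a = gn .a * x) : x ∈ N := by
  show Re _ _
  rw [h, mul_inv_cancel_right]
  exact .refl

theorem N_eq_top : N = ⊤ := by
  rw [eq_top_iff, ← PresentedGroup.closure_range_of, closure_le]
  rintro _ ⟨m, rfl⟩
  show gn m ∈ N
  cases m
  · exact comm_mem_N rfl
  · exact b_mem_N
  all_goals exact comm_mem_N (L_comm_a (gn_mem_L (by simp)))

theorem reach {x y : Cfsg.Spor.He} (hx : IsConj (gn .a) x) (hy : IsConj (gn .a) y) : Re x y := by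
  have key : ∀ {x : Cfsg.Spor.He}, IsConj (gn .a) x → Re (gn .a) x := by
    intro x hx
    obtain ⟨g, hg⟩ := isConj_iff.mp hx
    have h1 : g ∈ N := by rw [N_eq_top]; trivial
    have h2 : Re (gn .a) (g * gn .a * g⁻¹) := h1
    rwa [hg] at h2
  exact (key hx).symm.trans (key hy)

/-- **The commuting graph on the class 2A is connected.** -/
theorem conn {S : Set Cfsg.Spor.He} {x : Cfsg.Spor.He} (hx : IsConj (gn .a) x) (hxS : x ∈ S)
    (h : ∀ t ∈ S, IsConj (gn .a) t → ∀ t', IsConj (gn .a) t' → t * t' = t' * t → t' ∈ S)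
    {y : Cfsg.Spor.He} (hy : IsConj (gn .a) y) : y ∈ S := by
  have h1 := reach hx hy
  unfold Re at h1
  induction h1 with
  | refl => exact hxS
  | tail _ h2 ih => exact h _ (ih h2.1) h2.1 _ h2.2.1 h2.2.2

end Cfsg.Agent.KFacts.He.RecGraph
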