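import Mathlib
import Cfsg.Agent.KFacts.He.TwoA
import Cfsg.Agent.UGT.Cov.KleinP

/-!
# The component `L` of `C(a)` in the Held group, canonical involutions

* `mem_L_iff` : `L = C(V)`.
* `hh` : an element normalizing `L`, commuting with `c` and permuting `V` transitively.
* `dat` : coordinates on `L = 2².L₃(4)`.
* `can_c` : `c` is canonical in `L`; `conj_c` : every involution of `L ∖ V` is conjugate in `L` to some `c w`, `w ∈ V`;
  `can_iff` : the canonical involutions of `L` are the conjugates of `c`.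
* `g0` : `g0 a g0⁻¹ = c`, `a ∈ g0 L g0⁻¹`.
* `cw_conj` : the elements `c w`, `1 ≠ w ∈ V`, are conjugate to `c a`.
-/

set_option autoImplicit false

namespace Cfsg.Agent.KFacts.He.RecL

open Subgroup Cfsg
open Cfsg.Spor Cfsg.Spor.He Cfsg.Agent.SporadicB.HePerm Cfsg.Agent.FixBN.HeStab
open Cfsg.Agent.KFacts.He.Lv Cfsg.Agent.KFacts.He.TwoACent Cfsg.Agent.KFacts.He.TwoA
open Cfsg.Agent.KFacts.He.TwoAPlane
open Cfsg.Agent.UGT.Cov.Klein (Dat Can NInv Cj exists_dat)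
open scoped commutatorElement

instance finHe' : Finite Cfsg.Spor.He := Cfsg.Agent.SporadicB.HeUpper.card_he_le.1

theorem eqW {x y : List Gen} (h : chkB x y = true) : wd x = wd y := eq_of_chkB h

theorem wd_two (x y : Gen) : wd [x, y] = gn x * gn y := by rw [wd_cons, wd_one]

/-! ### The centralizer of `V` -/

theorem mem_L_iff {x : Cfsg.Spor.He} : x ∈ L ↔ x * gn .a = gn .a * x ∧ x * v = v * x := by
  refine ⟨fun h => ⟨L_comm_a h, L_comm_v h⟩, fun ⟨h1, h2⟩ => ?_⟩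
  rcases mem_C.mp (mem_C_of_comm h1) with h3 | h3
  · exact h3
  · exfalso
    have h4 := L_comm_v h3
    have h5 : s * v = v * s := by
      have h6 : x * (s * v) = x * (v * s) := by
        calc x * (s * v) = x * s * v := by rw [mul_assoc]
          _ = v * (x * s) := h4
          _ = v * x * s := by rw [mul_assoc]
          _ = x * (v * s) := by rw [← h2, mul_assoc]
      exact mul_left_cancel h6
    have h6 := s_conj_v
    rw [h5, mul_inv_cancel_right, mul_inv_cancel] at h6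
    exact a_ne_one h6.symm

theorem mem_L_iff' {x : Cfsg.Spor.He} : x ∈ L ↔ ∀ w ∈ V, x * w = w * x := by
  refine ⟨fun h w hw => mem_V.mp hw x h, fun h => mem_L_iff.mpr ⟨h _ a_mem_V, h _ v_mem_V⟩⟩

/-! ### The element `hh` -/

/-- the word of `hh` -/
def hW : List Gen := [.b, .c, .d, .f, .e, .d, .c, .d, .e, .b, .c, .d, .c, .d, .b, .c, .d, .f, .e, .d, .c, .b,
  .d, .c, .d, .e, .c, .d]

/-- `hh` commutes with `c`, `a ↦ v ↦ v a` -/
def hh : Cfsg.Spor.He := wd hW

theorem hh_c : hh * gn .c = gn .c * hh := by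
  have h := eqW (x := hW ++ [.c]) (y := [.c] ++ hW) (by decide +kernel)
  rwa [wd_append, wd_append, wd_one] at h

theorem hh_a : hh * gn .a = v * hh := by
  have h := eqW (x := hW ++ [.a]) (y := vW ++ hW) (by decide +kernel)
  rwa [wd_append, wd_append, wd_one] at h

theorem hh_v : hh * v = v * gn .a * hh := by
  have h := eqW (x := hW ++ vW) (y := vW ++ [.a] ++ hW) (by decide +kernel)
  rwa [wd_append, wd_append, wd_append, wd_one] at h

theorem hh_va : hh * (v * gn .a) = gn .a * hh := by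
  calc hh * (v * gn .a) = hh * v * gn .a := by rw [mul_assoc]
    _ = v * gn .a * (hh * gn .a) := by rw [hh_v, mul_assoc]
    _ = v * (gn .a * v) * hh := by rw [hh_a]; group
    _ = v * (v * gn .a) * hh := by rw [L_comm_a v_mem_L]
    _ = gn .a * hh := by rw [← mul_assoc v v, v_mul_self, one_mul]

/-- `hh` normalizes `L` -/
theorem hh_norm {x : Cfsg.Spor.He} (h : x ∈ L) : hh * x * hh⁻¹ ∈ L := by
  obtain ⟨h1, h2⟩ := mem_L_iff.mp h
  have ea : hh * (v * gn .a) * hh⁻¹ = gn .a := by rw [hh_va, mul_inv_cancel_right]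
  have ev : hh * gn .a * hh⁻¹ = v := by rw [hh_a, mul_inv_cancel_right]
  have h3 : x * (v * gn .a) = v * gn .a * x := by rw [← mul_assoc, h2, mul_assoc, h1, mul_assoc]
  refine mem_L_iff.mpr ⟨?_, ?_⟩
  · calc hh * x * hh⁻¹ * gn .a = hh * x * hh⁻¹ * (hh * (v * gn .a) * hh⁻¹) := by rw [ea]
      _ = hh * (x * (v * gn .a)) * hh⁻¹ := by group
      _ = hh * (v * gn .a * x) * hh⁻¹ := by rw [h3]
      _ = hh * (v * gn .a) * hh⁻¹ * (hh * x * hh⁻¹) := by group
      _ = gn .a * (hh * x * hh⁻¹) := by rw [ea]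
  · calc hh * x * hh⁻¹ * v = hh * x * hh⁻¹ * (hh * gn .a * hh⁻¹) := by rw [ev]
      _ = hh * (x * gn .a) * hh⁻¹ := by group
      _ = hh * (gn .a * x) * hh⁻¹ := by rw [h1]
      _ = hh * gn .a * hh⁻¹ * (hh * x * hh⁻¹) := by group
      _ = v * (hh * x * hh⁻¹) := by rw [ev]

/-- `hh` acts transitively on `V#` -/
theorem hh_V {w : Cfsg.Spor.He} (hw : w ∈ V) (h1 : w ≠ 1) : ∃ g ∈ ({1, hh, hh * hh} : Set Cfsg.Spor.He),
    g * gn .a * g⁻¹ = w ∧ g * gn .c * g⁻¹ = gn .c := by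
  have ec : hh * gn .c * hh⁻¹ = gn .c := by rw [hh_c, mul_inv_cancel_right]
  rcases V_eq hw with rfl | rfl | rfl | rfl
  · exact absurd rfl h1
  · exact ⟨1, by simp, by group, by group⟩
  · exact ⟨hh, by simp, by rw [hh_a, mul_inv_cancel_right], ec⟩
  · refine ⟨hh * hh, by simp, ?_, ?_⟩
    · calc hh * hh * gn .a * (hh * hh)⁻¹ = hh * (hh * gn .a * hh⁻¹) * hh⁻¹ := by group
        _ = hh * v * hh⁻¹ := by rw [hh_a, mul_inv_cancel_right]
        _ = v * gn .a := by rw [hh_v, mul_inv_cancel_right]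
    · calc hh * hh * gn .c * (hh * hh)⁻¹ = hh * (hh * gn .c * hh⁻¹) * hh⁻¹ := by group
        _ = gn .c := by rw [ec, ec]

theorem V_conj {w : Cfsg.Spor.He} (hw : w ∈ V) (h1 : w ≠ 1) : IsConj (gn .a) w := by
  obtain ⟨g, -, hg, -⟩ := hh_V hw h1
  exact isConj_iff.mpr ⟨g, hg⟩

/-! ### Coordinates -/

theorem center_sq {z : ↥L} (hz : z ∈ center ↥L) : z * z = 1 := by
  rw [center_L] at hz
  apply Subtype.ext
  show (z : Cfsg.Spor.He) * z = 1
  have hz' : (z : Cfsg.Spor.He) ∈ V := hz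
  rcases V_eq hz' with h | h | h | h
  · rw [h, one_mul]
  · rw [h]; exact gn_mul_self _
  · rw [h]; exact v_mul_self
  · rw [h]
    calc v * gn .a * (v * gn .a) = v * (gn .a * v) * gn .a := by group
      _ = v * (v * gn .a) * gn .a := by rw [L_comm_a v_mem_L]
      _ = v * v * (gn .a * gn .a) := by group
      _ = 1 := by rw [v_mul_self, gn_mul_self, one_mul]

theorem card_center_L : Nat.card (center ↥L) = 4 := by
  rw [center_L, ← card_V]
  exact Nat.card_congr (Subgroup.subgroupOfEquivOfLe V_le_L).toEquiv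

theorem commutator_L : commutator ↥L = ⊤ := by
  have h := isPerfect_L
  rwa [Group.isPerfect_def] at h

theorem exists_dat_L : Nonempty (Dat ↥L) :=
  exists_dat commutator_L card_center_L (fun _ hz => center_sq hz) (by rfl) quotEquiv

/-- coordinates on `L` -/
noncomputable def dat : Dat ↥L := exists_dat_L.some

theorem mem_center_L {z : ↥L} : z ∈ center ↥L ↔ (z : Cfsg.Spor.He) ∈ V := by
  rw [center_L, mem_subgroupOf]

/-! ### The element `c` -/

theorem c_mem_L : gn .c ∈ L := gn_mem_L (by simp)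

theorem d_mem_L : gn .d ∈ L := gn_mem_L (by simp)

/-- the element `c` of `L` -/
def cL : ↥L := ⟨gn .c, c_mem_L⟩

theorem c_not_mem_V : gn .c ∉ V := by
  intro h
  have h1 := mem_V.mp h _ d_mem_L
  have h2 : wd [Gen.d, .c] = wd [Gen.c, .d] := by
    rw [wd_cons, wd_one, wd_cons, wd_one]; exact h1
  exact ne_of_act 8 (by decide +kernel) h2

theorem NInv_cL : NInv cL := by
  refine ⟨Subtype.ext (gn_mul_self .c), fun h => c_not_mem_V ?_⟩
  exact mem_center_L.mp h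

theorem sq_ca : ∃ y ∈ L, y * y = gn .c * gn .a := by
  refine ⟨wd [.d, .c, .d, .c, .e, .d, .f, .g, .d, .c, .e, .d, .c, .d], wd_mem_L (by decide), ?_⟩
  have h := eqW (x := [.d, .c, .d, .c, .e, .d, .f, .g, .d, .c, .e, .d, .c, .d] ++ [.d, .c, .d, .c, .e, .d, .f, .g, .d, .c, .e, .d, .c, .d]) (y := [.c, .a]) (by decide +kernel)
  rwa [wd_append, wd_two] at h

theorem sq_cv : ∃ y ∈ L, y * y = gn .c * v := by
  refine ⟨wd [.d, .e, .f, .d, .c, .d, .e, .f, .d, .g], wd_mem_L (by decide), ?_⟩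
  have h := eqW (x := [.d, .e, .f, .d, .c, .d, .e, .f, .d, .g] ++ [.d, .e, .f, .d, .c, .d, .e, .f, .d, .g]) (y := [.c] ++ vW) (by decide +kernel)
  rwa [wd_append, wd_append, wd_one] at h

theorem sq_cva : ∃ y ∈ L, y * y = gn .c * (v * gn .a) := by
  refine ⟨wd [.d, .e, .g, .d, .c, .d, .e, .g, .d, .f], wd_mem_L (by decide), ?_⟩
  have h := eqW (x := [.d, .e, .g, .d, .c, .d, .e, .g, .d, .f] ++ [.d, .e, .g, .d, .c, .d, .e, .g, .d, .f]) (y := [.c] ++ (vW ++ [.a])) (by decide +kernel)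
  rwa [wd_append, wd_append, wd_append, wd_one, wd_one] at h

/-- the elements `c w`, `1 ≠ w ∈ V`, are squares in `L` -/
theorem sq_cw {w : Cfsg.Spor.He} (hw : w ∈ V) (h1 : w ≠ 1) : ∃ y ∈ L, y * y = gn .c * w := by
  rcases V_eq hw with rfl | rfl | rfl | rfl
  · exact absurd rfl h1
  · exact sq_ca
  · exact sq_cv
  · exact sq_cva

theorem g_mem_V (r : Cfsg.Agent.SporadicA.FieldFour.F4) : (dat.g r : Cfsg.Spor.He) ∈ V :=
  mem_center_L.mp (dat.g_mem_center r)

/-- `c` is conjugate to the standard canonical involution -/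
theorem cj_c_t : Cj cL dat.t := by
  obtain ⟨q, hq⟩ := dat.conj_tg NInv_cL
  by_cases h0 : q = 0
  · rwa [h0, dat.g_zero, mul_one] at hq
  · exfalso
    have h1 : Cj (cL * dat.g q) dat.t := by
      have h2 := Cfsg.Agent.UGT.Cov.Klein.Dat.Cj.g hq dat q
      rwa [mul_assoc, dat.g_sq, mul_one] at h2
    have h3 : (dat.g q : Cfsg.Spor.He) ≠ 1 := by
      intro h4
      have h5 : dat.g q = dat.g 0 := by
        rw [dat.g_zero]; exact Subtype.ext h4
      exact h0 (dat.g_inj h5)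
    obtain ⟨y, hy, hyy⟩ := sq_cw (g_mem_V q) h3
    obtain ⟨k, hk⟩ := h1
    apply dat.t_not_sq (k * ⟨y, hy⟩ * k⁻¹)
    have h6 : (⟨y, hy⟩ : ↥L) * ⟨y, hy⟩ = cL * dat.g q := Subtype.ext hyy
    calc k * ⟨y, hy⟩ * k⁻¹ * (k * ⟨y, hy⟩ * k⁻¹) = k * (⟨y, hy⟩ * ⟨y, hy⟩) * k⁻¹ := by group
      _ = dat.t := by rw [h6, hk]

/-- **The canonical involutions of `L` are the conjugates of `c`.** -/
theorem can_iff {t : ↥L} : Can t ↔ Cj t cL := by
  rw [dat.can_iff]
  exact ⟨fun h => h.trans' cj_c_t.symm', fun h => h.trans' cj_c_t⟩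

theorem can_c : Can cL := can_iff.mpr (Cj.refl' _)

/-- **every involution of `L ∖ V` is conjugate in `L` to some `c w`** -/
theorem conj_c {t : ↥L} (ht : NInv t) : ∃ w : ↥L, (w : Cfsg.Spor.He) ∈ V ∧ Cj t (cL * w) := by
  obtain ⟨r, hr⟩ := dat.conj_tg ht
  exact ⟨dat.g r, g_mem_V r, hr.trans' (Cfsg.Agent.UGT.Cov.Klein.Dat.Cj.g cj_c_t dat r).symm'⟩

/-- a noncanonical involution -/
theorem conj_c' {t : ↥L} (ht : NInv t) (hn : ¬ Can t) :
    ∃ w : ↥L, (w : Cfsg.Spor.He) ∈ V ∧ w ≠ 1 ∧ Cj t (cL * w) := by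
  obtain ⟨w, hw, h⟩ := conj_c ht
  refine ⟨w, hw, ?_, h⟩
  rintro rfl
  rw [mul_one] at h
  exact hn (can_iff.mpr h)

/-! ### Classes of the Held group -/

/-- the elements `c w` are conjugate to `c a` -/
theorem cw_conj {w : Cfsg.Spor.He} (hw : w ∈ V) (h1 : w ≠ 1) : IsConj (gn .c * gn .a) (gn .c * w) := by
  obtain ⟨g, -, hg, hc⟩ := hh_V hw h1
  refine isConj_iff.mpr ⟨g, ?_⟩
  calc g * (gn .c * gn .a) * g⁻¹ = g * gn .c * g⁻¹ * (g * gn .a * g⁻¹) := by group
    _ = gn .c * w := by rw [hg, hc]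

/-- `c a` is conjugate to `d` -/
theorem ca_d : IsConj (gn .c * gn .a) (gn .d) := by
  have h := eqW (x := [.c, .d, .c, .d] ++ [.c, .a]) (y := [.d] ++ [.c, .d, .c, .d]) (by decide +kernel)
  rw [wd_append, wd_append, wd_one] at h
  rw [wd_two] at h
  exact isConj_iff.mpr ⟨wd [.c, .d, .c, .d], by rw [h, mul_inv_cancel_right]⟩

theorem coe_conj {t u : ↥L} (h : Cj t u) : IsConj (t : Cfsg.Spor.He) u := by
  obtain ⟨k, hk⟩ := h
  exact isConj_iff.mpr ⟨k, congrArg Subtype.val hk⟩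

/-- noncanonical involutions of `L ∖ V` are conjugate to `d` -/
theorem conj_d {t : ↥L} (ht : NInv t) (hn : ¬ Can t) : IsConj (gn .d) (t : Cfsg.Spor.He) := by
  obtain ⟨w, hw, h1, h⟩ := conj_c' ht hn
  have h2 := coe_conj h
  have h3 := cw_conj hw (fun h4 => h1 (Subtype.ext h4))
  exact ca_d.symm.trans (h3.trans h2.symm)

/-- `g0 a g0⁻¹ = c` -/
def g0W : List Gen := [.d, .c, .d, .f, .c, .d, .g, .b, .c, .d, .f, .e, .d, .c, .b]

/-- `g0 a g0⁻¹ = c` -/
def g0 : Cfsg.Spor.He := wd g0W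

theorem g0_a : g0 * gn .a * g0⁻¹ = gn .c := by
  have h := eqW (x := g0W ++ [.a]) (y := [.c] ++ g0W) (by decide +kernel)
  rw [wd_append, wd_append, wd_one, wd_one] at h
  show g0 * gn .a * g0⁻¹ = gn .c
  rw [show g0 * gn .a = gn .c * g0 from h, mul_inv_cancel_right]

/-- `g0⁻¹ a g0` is the conjugate of `c` under `x0` -/
theorem g0_inv_a : g0⁻¹ * gn .a * g0 ∈ L := by
  have h := eqW (x := [.a] ++ g0W) (y := g0W ++ [.g, .d, .f, .c, .d, .c, .d, .c, .d, .c, .d, .c, .f, .d, .g]) (by decide +kernel)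
  rw [wd_append, wd_append, wd_one] at h
  have h1 : g0⁻¹ * gn .a * g0 = wd [.g, .d, .f, .c, .d, .c, .d, .c, .d, .c, .d, .c, .f, .d, .g] := by
    rw [mul_assoc, show gn .a * g0 = g0 * _ from h, inv_mul_cancel_left]
  rw [h1]
  exact wd_mem_L (by decide)

theorem conj_a_c : IsConj (gn .a) (gn .c) := isConj_iff.mpr ⟨g0, g0_a⟩

/-- **Canonical involutions are of type 2A, and `a` lies in the corresponding component.** -/
theorem of_can {t : ↥L} (ht : Can t) : ∃ g : Cfsg.Spor.He, g * gn .a * g⁻¹ = t ∧ g⁻¹ * gn .a * g ∈ L := by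
  obtain ⟨k, hk⟩ := (can_iff.mp ht).symm'
  refine ⟨k * g0, ?_, ?_⟩
  · have h1 : (k : Cfsg.Spor.He) * gn .c * (k : Cfsg.Spor.He)⁻¹ = t := congrArg Subtype.val hk
    calc (k : Cfsg.Spor.He) * g0 * gn .a * (k * g0)⁻¹ = k * (g0 * gn .a * g0⁻¹) * (k : Cfsg.Spor.He)⁻¹ := by group
      _ = t := by rw [g0_a, h1]
  · have h1 := L_comm_a k.2
    have h2 : (k * g0)⁻¹ * gn .a * (k * g0) = g0⁻¹ * gn .a * g0 := by
      calc (k * g0)⁻¹ * gn .a * (k * g0) = g0⁻¹ * (k : Cfsg.Spor.He)⁻¹ * (gn .a * k) * g0 := by group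
        _ = g0⁻¹ * (k : Cfsg.Spor.He)⁻¹ * (k * gn .a) * g0 := by rw [h1]
        _ = g0⁻¹ * gn .a * g0 := by group
    rw [h2]
    exact g0_inv_a

end Cfsg.Agent.KFacts.He.RecL
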