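import Mathlib
import Cfsg.Agent.KFacts.He.Classes
import Cfsg.Agent.KFacts.He.RecL

/-!
# Involutions of the Held group commuting with an involution of type 2A

* `cases_comm'` : the involutions commuting with `z` up to conjugacy in `C(z)`.
* `exists_root` : an involution of type 2A commuting with `z` centralizes a square root of `z`.
* `a_not_z` : `a` and `z` are not conjugate.
* `out` : an involution of `C(a)` outside of `L` is conjugate to `a`.
-/

set_option autoImplicit false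
set_option Elab.async false

namespace Cfsg.Agent.KFacts.He.RecOut

open Cfsg.Spor Cfsg.Spor.He Cfsg.Agent.SporadicB.HePerm Cfsg.Agent.KFacts.He.Words
  Cfsg.Agent.KFacts.He.Hyp Cfsg.Agent.KFacts.He.AutP Cfsg.Agent.Held.Letters Cfsg.Agent.Held.GenC
  Cfsg.Agent.KFacts.He.Bound Cfsg.Agent.Held.LetterVals
  Cfsg.Agent.SporadicRecognition.CosetCert Cfsg.Agent.SporadicRecognition.HeldModel
open Cfsg.Agent.Held.Code (Emb C X mu mu_assoc mu_e1 mu_lt exists_emb)
open Cfsg.Agent.Held.EmbSt (cx C_cx cx_sq evC C_evC ev_ph ph_e1)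
open Cfsg.Agent.KFacts.He.Classes (mins certA certB exists_ph exists_min mins_cases of_certB)
open Cfsg.Agent.KFacts.He.Lv (gn)
open Cfsg.Agent.KFacts.He.TwoACent (L)

/-- roots of `z` centralizing the words of `certA` -/
def certC : List (List ℕ × List ℕ) := [([0,8], [2,9]), ([0,9], [1,8]), ([1,6], [2,9]), ([1,9], [0,6]),
  ([2,6], [1,8]), ([2,8], [0,6]), ([3,5], [1,8]), ([3,4,10,4], [2,9]),
  ([3,7,11,7], [0,6]), ([3,5,10,11,10,11,5], [1,8])]

theorem fst_eq : certC.map Prod.fst = certA.map Prod.fst := by decide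

theorem chkC1 : allW (certC.map fun p => (p.2 ++ p.2, [3])) = true := by decide +kernel

theorem chkC2 : allW (certC.map fun p => (p.2 ++ p.1, p.1 ++ p.2)) = true := by decide +kernel

/-- the involutions commuting with `z`, up to conjugacy in `C(z)` -/
theorem cases_comm' {t : Cfsg.Spor.He} (ht : t * t = 1) (h1 : t ≠ 1) (hz : t * z = z * t) :
    ∃ w ∈ mins, ∃ g : Cfsg.Spor.He, g * z = z * g ∧ g * t * g⁻¹ = ev (gy xr y1 y2) w := by
  obtain ⟨ph, E, hph⟩ := exists_ph
  obtain ⟨c, hc, rfl⟩ := E.surj t hz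
  have e1 : mu c c = Held.Code.e1 := by
    apply E.inj (hc.mul hc) Held.Code.C_e1
    rw [E.mul hc hc, ht, ph_e1 E]
  have e2 : c ≠ Held.Code.e1 := by
    rintro rfl
    exact h1 (ph_e1 E)
  obtain ⟨w, hw, g, hgz, hg⟩ := exists_min E c c le_rfl hc e1 e2
  have hlt : ∀ w ∈ mins, ∀ l ∈ w, l < 12 := by decide
  have e3 : ph (evC w) = ev (gy xr y1 y2) w := by
    rw [← ev_ph E]
    apply ev_congr
    intro l hl
    rw [gy_of_lt xr y1 y2 (hlt w hw l hl), Held.EmbSt.gx_ph E, hph l (hlt w hw l hl)]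
  rw [e3] at hg
  exact ⟨w, hw, g, hgz, hg⟩

/-- **An involution not conjugate to `z` commuting with `z` centralizes a square root of `z`.** -/
theorem exists_root {t : Cfsg.Spor.He} (ht : t * t = 1) (h1 : t ≠ 1) (hz : t * z = z * t)
    (hn : ∀ g, g * t * g⁻¹ ≠ z) : ∃ y : Cfsg.Spor.He, y * y = z ∧ y * t = t * y := by
  obtain ⟨w, hw, g, hgz, hg⟩ := cases_comm' ht h1 hz
  rcases mins_cases w hw with h | h
  · exfalso
    obtain ⟨k, hk⟩ := of_certB h
    apply hn (k * g)
    rw [← hk, ← hg]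
    group
  · rw [← fst_eq] at h
    obtain ⟨p, hp, rfl⟩ := List.mem_map.mp h
    have e1 := allW_sound chkC1 _ (List.mem_map.mpr ⟨p, hp, rfl⟩)
    have e2 := allW_sound chkC2 _ (List.mem_map.mpr ⟨p, hp, rfl⟩)
    rw [ev_append, ev_one] at e1
    rw [ev_append, ev_append] at e2
    have e3 : gy xr y1 y2 3 = z := rfl
    rw [e3] at e1
    obtain ⟨y, hy⟩ : ∃ y, y = ev (gy xr y1 y2) p.2 := ⟨_, rfl⟩
    rw [← hy] at e1 e2
    rw [← hg] at e2
    refine ⟨g⁻¹ * y * g, ?_, ?_⟩
    · calc g⁻¹ * y * g * (g⁻¹ * y * g) = g⁻¹ * (y * y) * g := by group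
        _ = g⁻¹ * (z * g) := by rw [e1, mul_assoc]
        _ = z := by rw [← hgz, inv_mul_cancel_left]
    · calc g⁻¹ * y * g * t = g⁻¹ * (y * (g * t * g⁻¹)) * g := by group
        _ = g⁻¹ * (g * t * g⁻¹ * y) * g := by rw [e2]
        _ = t * (g⁻¹ * y * g) := by group

/-! ### `a` and `z` -/

/-- `5 ∣ |L|` -/
theorem five_L : 5 ∣ Nat.card ↥L := by
  have h1 : (Lv.gn Gen.c * gn .d) ^ 2 ∈ L := L.pow_mem (L.mul_mem RecL.c_mem_L RecL.d_mem_L) 2
  have h2 : ((Lv.gn Gen.c * gn .d) ^ 2) ^ 5 = 1 := by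
    have h := RecL.eqW (x := [.c,.d,.c,.d,.c,.d,.c,.d,.c,.d,.c,.d,.c,.d,.c,.d,.c,.d,.c,.d]) (y := [])
      (by decide +kernel)
    simp only [Lv.wd_cons, Lv.wd_nil, mul_one] at h
    rw [← h]
    simp only [pow_succ, pow_zero, one_mul, mul_assoc]
  have h3 : (Lv.gn Gen.c * gn .d) ^ 2 ≠ 1 := by
    intro h
    have h4 : wd [Gen.c, .d, .c, .d] = wd [] := by
      simp only [Lv.wd_cons, Lv.wd_nil, mul_one]
      rw [← h]
      simp only [pow_succ, pow_zero, one_mul, mul_assoc]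
    exact TwoACent.ne_of_act 8 (by decide +kernel) h4
  have h5 : Fact (Nat.Prime 5) := ⟨by norm_num⟩
  have h6 : orderOf (⟨_, h1⟩ : ↥L) = 5 := by
    apply orderOf_eq_prime
    · exact Subtype.ext h2
    · intro h; exact h3 (congrArg Subtype.val h)
  rw [← h6]
  exact orderOf_dvd_natCard _

/-- **`a` and `z` are not conjugate.** -/
theorem a_not_z (g : Cfsg.Spor.He) : g * gn .a * g⁻¹ ≠ z := by
  intro hg
  have h1 : L.map (MulAut.conj g).toMonoidHom ≤ Subgroup.centralizer ({z} : Set Cfsg.Spor.He) := by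
    rintro _ ⟨l, hl, rfl⟩
    rw [Subgroup.mem_centralizer_singleton_iff]
    show g * l * g⁻¹ * z = z * (g * l * g⁻¹)
    rw [← hg]
    calc g * l * g⁻¹ * (g * gn .a * g⁻¹) = g * (l * gn .a) * g⁻¹ := by group
      _ = g * (gn .a * l) * g⁻¹ := by rw [TwoACent.L_comm_a hl]
      _ = g * gn .a * g⁻¹ * (g * l * g⁻¹) := by group
  have h2 := Subgroup.card_dvd_of_le h1
  rw [Classes.card_centralizer, Subgroup.card_map_of_injective (MulAut.conj g).injective] at h2
  have h3 := five_L.trans h2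
  norm_num at h3

/-- **An involution of `C(a)` outside of `L` is conjugate to `a`.** -/
theorem out {t : Cfsg.Spor.He} (ht : t * t = 1) (hc : t * gn .a = gn .a * t) (hL : t ∉ L) :
    ∃ g : Cfsg.Spor.He, g * gn .a * g⁻¹ = t := by
  have h1 : t ≠ 1 := by rintro rfl; exact hL L.one_mem
  rcases Classes.two_classes_a ht h1 with ⟨g, hg⟩ | h
  · exfalso
    have ha : gn .a * gn .a = 1 := TwoACent.gn_mul_self .a
    have hcz : g⁻¹ * gn .a * g * z = z * (g⁻¹ * gn .a * g) := by
      calc g⁻¹ * gn .a * g * z = g⁻¹ * (gn .a * (g * z * g⁻¹)) * g := by group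
        _ = g⁻¹ * (g * z * g⁻¹ * gn .a) * g := by rw [hg, hc]
        _ = z * (g⁻¹ * gn .a * g) := by group
    obtain ⟨y, hy1, hy2⟩ := exists_root (t := g⁻¹ * gn .a * g) (by
        calc g⁻¹ * gn .a * g * (g⁻¹ * gn .a * g) = g⁻¹ * (gn .a * gn .a) * g := by group
          _ = 1 := by rw [ha]; group) (by
        intro h
        apply TwoACent.a_ne_one
        calc gn .a = g * (g⁻¹ * gn .a * g) * g⁻¹ := by group
          _ = 1 := by rw [h]; group) hcz (fun k hk => a_not_z (k * g⁻¹) (by rw [← hk]; group))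
    have h2 : g * y * g⁻¹ * gn .a = gn .a * (g * y * g⁻¹) := by
      calc g * y * g⁻¹ * gn .a = g * (y * (g⁻¹ * gn .a * g)) * g⁻¹ := by group
        _ = g * (g⁻¹ * gn .a * g * y) * g⁻¹ := by rw [hy2]
        _ = gn .a * (g * y * g⁻¹) := by group
    have h3 : g * y * g⁻¹ * (g * y * g⁻¹) = t := by
      calc g * y * g⁻¹ * (g * y * g⁻¹) = g * (y * y) * g⁻¹ := by group
        _ = t := by rw [hy1, hg]
    apply hL
    rw [← h3]
    rcases TwoACent.two h2 h2 with h | h | h
    · exact L.mul_mem h h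
    · exact L.mul_mem h h
    · exact h
  · exact h

end Cfsg.Agent.KFacts.He.RecOut
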